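import Groth.Agent.InjHullLib.Noetherian
import Groth.Agent.S0543

/-!
# Matlis duality at a maximal ideal
-/

universe u v w

namespace InjHullLib

open InjHull

variable {R : Type u} [CommRing R] {m : Ideal R} [m.IsMaximal] {E : Type u} [AddCommGroup E] [Module R E]
  {f : (R ⧸ m) →ₗ[R] E}

lemma smul_apply_eq_zero_of_mem {s : R} (hs : s ∈ m) (a : R ⧸ m) : s • f a = 0 := by
  obtain ⟨a, rfl⟩ := Ideal.Quotient.mk_surjective a
  rw [← map_smul, Algebra.smul_def, Ideal.Quotient.algebraMap_eq, Ideal.Quotient.eq_zero_iff_mem.2 hs, zero_mul, map_zero]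

/-- The socle of an essential extension of `R/m`. -/
lemma mem_range_of_smul_eq_zero (hf : IsEssentialInj f) {x : E} (hx : ∀ s ∈ m, s • x = 0) : x ∈ LinearMap.range f := by
  by_cases hx0 : x = 0
  · rw [hx0]; exact Submodule.zero_mem _
  obtain ⟨r, ⟨a, ha⟩, hr⟩ := exists_smul_mem_of_essential hf hx0
  have hrm : r ∉ m := fun h => hr (hx r h)
  obtain ⟨r', i, hi, h1⟩ := (‹m.IsMaximal›).exists_inv hrm
  refine ⟨r' • a, ?_⟩
  rw [map_smul, ha, smul_smul]
  conv_rhs => rw [← one_smul R x, ← h1, add_smul, hx i hi, add_zero]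

/-- Elements of an essential extension of `R/m` are killed by powers of `m`. -/
theorem isPowerTorsion_hull [IsNoetherianRing R] (hf : IsEssentialInj f) : LocCoh.IsPowerTorsion m E := by
  intro x
  have key : ∀ s ∈ m, ∃ n : ℕ, s ^ n • x = 0 := by
    intro s hs
    let K : ℕ →o Submodule R R := ⟨fun k => LinearMap.ker (LinearMap.toSpanSingleton R E (s ^ k • x)), fun a b hab r hr => by
      rw [LinearMap.mem_ker, LinearMap.toSpanSingleton_apply] at hr ⊢
      rw [← Nat.sub_add_cancel hab, pow_add, mul_smul, smul_comm, hr, smul_zero]⟩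
    obtain ⟨n, hn⟩ := monotone_stabilizes_iff_noetherian.2 ‹IsNoetherianRing R› K
    refine ⟨n, by_contra fun hne => ?_⟩
    obtain ⟨c, ⟨a, ha⟩, hc⟩ := exists_smul_mem_of_essential hf hne
    have h1 : c ∈ K (n + 1) := by
      show c ∈ LinearMap.ker (LinearMap.toSpanSingleton R E (s ^ (n + 1) • x))
      rw [LinearMap.mem_ker, LinearMap.toSpanSingleton_apply, pow_succ', mul_smul, smul_comm, ← ha]
      exact smul_apply_eq_zero_of_mem hs a
    rw [← hn (n + 1) (Nat.le_succ n)] at h1
    exact hc (by
      have h2 : c ∈ LinearMap.ker (LinearMap.toSpanSingleton R E (s ^ n • x)) := h1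
      rwa [LinearMap.mem_ker, LinearMap.toSpanSingleton_apply] at h2)
  have hrad : m ≤ Ideal.radical (LinearMap.ker (LinearMap.toSpanSingleton R E x) : Ideal R) := fun s hs => by
    obtain ⟨n, hn⟩ := key s hs
    exact ⟨n, by rw [LinearMap.mem_ker, LinearMap.toSpanSingleton_apply]; exact hn⟩
  obtain ⟨n, hn⟩ := Ideal.exists_pow_le_of_le_radical_of_fg hrad (IsNoetherian.noetherian m)
  exact ⟨n, fun a ha => by simpa using hn ha⟩

/-- Nonzero torsion elements are detected by maps to the hull. -/
lemma exists_ne_zero (hinj : Function.Injective f) (hE : Module.Injective R E) {G : Type u} [AddCommGroup G] [Module R G] {x : G}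
    (hx : x ≠ 0) (hann : ∀ r : R, r • x = 0 → r ∈ m) : ∃ φ : G →ₗ[R] E, φ x ≠ 0 := by
  let i := (LinearMap.ker (LinearMap.toSpanSingleton R G x)).liftQ (LinearMap.toSpanSingleton R G x) le_rfl
  have hi : Function.Injective i := LinearMap.ker_eq_bot.1 (Submodule.ker_liftQ_eq_bot _ _ _ le_rfl)
  obtain ⟨φ, hφ⟩ := exists_extend hE i hi
    ((LinearMap.ker (LinearMap.toSpanSingleton R G x)).liftQ (f ∘ₗ Submodule.mkQ m) fun r hr => by
      rw [LinearMap.mem_ker, LinearMap.toSpanSingleton_apply] at hr
      rw [LinearMap.mem_ker, LinearMap.comp_apply, Submodule.mkQ_apply, (Submodule.Quotient.mk_eq_zero m).2 (hann r hr), map_zero])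
  refine ⟨φ, fun h => ?_⟩
  have h1 := LinearMap.congr_fun hφ (Submodule.Quotient.mk 1)
  simp only [LinearMap.comp_apply, i, Submodule.liftQ_apply, LinearMap.toSpanSingleton_apply, one_smul, Submodule.mkQ_apply] at h1
  rw [h, eq_comm, map_eq_zero_iff f hinj, Submodule.Quotient.mk_eq_zero] at h1
  exact (‹m.IsMaximal›).ne_top ((Ideal.eq_top_iff_one m).2 h1)

lemma mem_of_smul_eq_zero_of_powerTorsion {G : Type v} [AddCommGroup G] [Module R G] {n : ℕ} {x : G} (hx : x ≠ 0)
    (hn : ∀ a ∈ m ^ n, a • x = 0) {r : R} (hr : r • x = 0) : r ∈ m := by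
  by_contra hrm
  obtain ⟨r', i, hi, h1⟩ := (‹m.IsMaximal›).exists_inv hrm
  obtain ⟨c, hc⟩ : ∃ c : R, (1 - r' * r) ^ n = 1 - c * r := by
    obtain ⟨c, hc⟩ := sub_dvd_pow_sub_pow (1 : R) (1 - r' * r) n
    rw [sub_sub_cancel, one_pow] at hc
    exact ⟨r' * c, by linear_combination -hc⟩
  have h2 := hn _ (Ideal.pow_mem_pow (show 1 - r' * r ∈ m by rw [← h1]; simpa using hi) n)
  rw [hc, sub_smul, one_smul, mul_smul, hr, smul_zero, sub_zero] at h2
  exact hx h2

lemma exists_ne_zero_of_powerTorsion (hinj : Function.Injective f) (hE : Module.Injective R E) {G : Type u} [AddCommGroup G]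
    [Module R G] (hG : LocCoh.IsPowerTorsion m G) {x : G} (hx : x ≠ 0) : ∃ φ : G →ₗ[R] E, φ x ≠ 0 := by
  obtain ⟨n, hn⟩ := hG x
  exact exists_ne_zero hinj hE hx fun r hr => mem_of_smul_eq_zero_of_powerTorsion hx hn hr

lemma applyₗ_injective (hinj : Function.Injective f) (hE : Module.Injective R E) {G : Type u} [AddCommGroup G] [Module R G]
    (hG : LocCoh.IsPowerTorsion m G) : Function.Injective (LinearMap.applyₗ : G →ₗ[R] (G →ₗ[R] E) →ₗ[R] E) := by
  refine (injective_iff_map_eq_zero _).2 fun x hx => by_contra fun hne => ?_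
  obtain ⟨φ, hφ⟩ := exists_ne_zero_of_powerTorsion hinj hE hG hne
  exact hφ (LinearMap.congr_fun hx φ)

/-- Precomposition is surjective for maps into an injective module. -/
lemma lcomp_surjective (hE : Module.Injective R E) {A B : Type u} [AddCommGroup A] [Module R A] [AddCommGroup B] [Module R B]
    (i : A →ₗ[R] B) (hi : Function.Injective i) : Function.Surjective (LinearMap.lcomp R E i) :=
  fun g => exists_extend hE i hi g

/-- The dual of a simple module killed by a power of `m`. -/
lemma length_hom_simple (hf : IsEssentialInj f) {Q : Type u} [AddCommGroup Q] [Module R Q] [IsSimpleModule R Q]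
    {n : ℕ} (hQ : ∀ a ∈ m ^ n, ∀ x : Q, a • x = 0) : Module.length R (Q →ₗ[R] E) = 1 := by
  obtain ⟨I, hI, ⟨e⟩⟩ := isSimpleModule_iff_quot_maximal.1 ‹IsSimpleModule R Q›
  have hIm : I = m := by
    refine (Ideal.IsMaximal.eq_of_le ‹_› hI.ne_top ?_).symm
    intro s hs
    have h1 : s ^ n • e.symm (Submodule.Quotient.mk 1) = 0 := hQ _ (Ideal.pow_mem_pow hs n) _
    rw [← map_smul, map_eq_zero_iff e.symm e.symm.injective, ← Submodule.Quotient.mk_smul, Submodule.Quotient.mk_eq_zero,
      smul_eq_mul, mul_one] at h1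
    exact hI.isPrime.mem_of_pow_mem n h1
  subst hIm
  haveI : IsSimpleModule R (R ⧸ I) := isSimpleModule_iff_quot_maximal.2 ⟨I, hI, ⟨LinearEquiv.refl R _⟩⟩
  let ev : ((R ⧸ I) →ₗ[R] E) →ₗ[R] E := LinearMap.applyₗ (Submodule.Quotient.mk 1)
  have hev : ∀ φ, ev φ = φ (Submodule.Quotient.mk 1) := fun φ => rfl
  have hinj : Function.Injective ev := fun a b hab => by
    refine Submodule.linearMap_qext _ (LinearMap.ext_ring ?_)
    simpa [hev] using hab
  have hrange : LinearMap.range ev = LinearMap.range f := by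
    refine le_antisymm ?_ ?_
    · rintro _ ⟨φ, rfl⟩
      refine mem_range_of_smul_eq_zero hf fun s hs => ?_
      rw [hev, ← map_smul, ← Submodule.Quotient.mk_smul, (Submodule.Quotient.mk_eq_zero I).2 (by simpa using hs), map_zero]
    · rintro _ ⟨a, rfl⟩
      obtain ⟨a, rfl⟩ := Submodule.Quotient.mk_surjective I a
      exact ⟨a • f, by rw [hev, LinearMap.smul_apply, ← map_smul, ← Submodule.Quotient.mk_smul, smul_eq_mul, mul_one]⟩
  rw [(LinearEquiv.congrLeft E R e).length_eq, (LinearEquiv.ofInjective ev hinj).length_eq, hrange,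
    ← (LinearEquiv.ofInjective f hf.injective).length_eq]
  exact Module.length_eq_one R (R ⧸ I)

/-- Length is preserved by duality. -/
theorem length_hom (hf : IsInjectiveHull f) {M : Type u} [AddCommGroup M] [Module R M] (hM : IsFiniteLength R M) {n : ℕ}
    (hn : ∀ a ∈ m ^ n, ∀ x : M, a • x = 0) : Module.length R (M →ₗ[R] E) = Module.length R M := by
  induction hM with
  | of_subsingleton =>
    rename_i M _ _ _
    haveI : Subsingleton (M →ₗ[R] E) := ⟨fun a b => LinearMap.ext fun x => by rw [Subsingleton.elim x 0, map_zero, map_zero]⟩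
    rw [Module.length_eq_zero, Module.length_eq_zero]
  | of_simple_quotient hN ih =>
    rename_i M _ _ N _
    have hq : ∀ a ∈ m ^ n, ∀ x : M ⧸ N, a • x = 0 := fun a ha x => by
      obtain ⟨x, rfl⟩ := Submodule.mkQ_surjective N x
      rw [← map_smul, hn a ha x, map_zero]
    rw [Module.length_eq_add_of_exact (LinearMap.lcomp R E N.mkQ) (LinearMap.lcomp R E N.subtype)
        (fun a b h => Submodule.linearMap_qext _ h) (lcomp_surjective hf.isInjective _ (Submodule.injective_subtype N)) ?_,
      Module.length_eq_add_of_exact N.subtype N.mkQ (Submodule.injective_subtype N) (Submodule.mkQ_surjective N)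
        (LinearMap.exact_subtype_mkQ N), length_hom_simple hf.toIsEssentialInj hq, Module.length_eq_one R (M ⧸ N),
      ih (fun a ha x => Subtype.ext (hn a ha x)), add_comm]
    intro g
    constructor
    · intro hg
      exact ⟨Submodule.liftQ N g (fun x hx => LinearMap.congr_fun hg ⟨x, hx⟩), LinearMap.ext fun x => rfl⟩
    · rintro ⟨h, rfl⟩
      refine LinearMap.ext fun x => ?_
      show h (N.mkQ x) = 0
      rw [Submodule.mkQ_apply, (Submodule.Quotient.mk_eq_zero N).2 x.2, map_zero]

/-- Double duality for finite length. -/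
theorem applyₗ_bijective_of_isFiniteLength (hf : IsInjectiveHull f) {M : Type u} [AddCommGroup M] [Module R M]
    (hM : IsFiniteLength R M) {n : ℕ} (hn : ∀ a ∈ m ^ n, ∀ x : M, a • x = 0) :
    Function.Bijective (LinearMap.applyₗ : M →ₗ[R] (M →ₗ[R] E) →ₗ[R] E) := by
  have hinj := applyₗ_injective hf.injective hf.isInjective (G := M) fun x => ⟨n, fun a ha => hn a ha x⟩
  have h1 := length_hom hf hM hn
  have hM' : IsFiniteLength R (M →ₗ[R] E) := Module.length_ne_top_iff.1 (by rw [h1]; exact Module.length_ne_top_iff.2 hM)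
  have hn' : ∀ a ∈ m ^ n, ∀ g : M →ₗ[R] E, a • g = 0 := fun a ha g => LinearMap.ext fun x => by
    rw [LinearMap.smul_apply, ← map_smul, hn a ha x, map_zero, LinearMap.zero_apply]
  have h2 : Module.length R ((M →ₗ[R] E) →ₗ[R] E) = Module.length R M := (length_hom hf hM' hn').trans h1
  obtain ⟨_, _⟩ := isFiniteLength_iff_isNoetherian_isArtinian.1
    ((Module.length_ne_top_iff (M := (M →ₗ[R] E) →ₗ[R] E)).1 (by rw [h2]; exact Module.length_ne_top_iff.2 hM))
  refine ⟨hinj, LinearMap.range_eq_top.1 (by_contra fun hne => ?_)⟩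
  have h3 := Submodule.length_lt hne
  rw [← (LinearEquiv.ofInjective _ hinj).length_eq, h2] at h3
  exact lt_irrefl _ h3

section Completion

variable [IsNoetherianRing R]

/-- `R/m^n` has finite length. -/
lemma isFiniteLength_quotient_pow (n : ℕ) : IsFiniteLength R (R ⧸ m ^ n) := by
  induction n with
  | zero =>
    haveI : Subsingleton (R ⧸ m ^ 0) := Ideal.Quotient.subsingleton_iff.2 (by rw [pow_zero, Ideal.one_eq_top])
    exact IsFiniteLength.of_subsingleton
  | succ n ih =>
    haveI : IsArtinianRing (R ⧸ m) := by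
      letI := Ideal.Quotient.field m
      infer_instance
    obtain ⟨_, hA⟩ := isFiniteLength_iff_isNoetherian_isArtinian.1 ih
    rw [isFiniteLength_iff_isNoetherian_isArtinian]
    refine ⟨inferInstance, ?_⟩
    -- the kernel of the projection is killed by `m`
    let N : Submodule R (R ⧸ m ^ (n + 1)) := Submodule.map (Submodule.mkQ (m ^ (n + 1) : Submodule R R)) (m ^ n)
    have hN : Module.IsTorsionBySet R N (m : Set R) := by
      rintro ⟨_, x, hx, rfl⟩ ⟨a, ha⟩
      refine Subtype.ext ?_
      show a • Submodule.mkQ (m ^ (n + 1) : Submodule R R) x = 0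
      rw [← map_smul, Submodule.mkQ_apply, Submodule.Quotient.mk_eq_zero, smul_eq_mul, pow_succ']
      exact Ideal.mul_mem_mul ha hx
    letI := hN.module
    haveI : IsScalarTower R (R ⧸ m) N := hN.isScalarTower
    haveI : Module.Finite (R ⧸ m) N := Module.Finite.of_restrictScalars_finite R (R ⧸ m) N
    haveI : IsArtinian (R ⧸ m) N := inferInstance
    haveI : IsArtinian R N := isArtinian_of_surjective_algebraMap (R := R ⧸ m) (S := R) (M := N) Ideal.Quotient.mk_surjective
    refine (isArtinian_iff_submodule_quotient N).2 ⟨inferInstance, ?_⟩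
    exact isArtinian_of_linearEquiv (Submodule.quotientQuotientEquivQuotient _ _
      (Ideal.pow_le_pow_right (Nat.le_succ n) : (m ^ (n + 1) : Submodule R R) ≤ m ^ n)).symm

/-- An element of `R` killing `E[m^n]` lies in `m^n`. -/
lemma mem_pow_of_annihilates (hf : IsInjectiveHull f) {n : ℕ} {r : R}
    (h : ∀ x : E, (∀ a ∈ m ^ n, a • x = 0) → r • x = 0) : r ∈ m ^ n := by
  by_contra hr
  have hne : (Submodule.Quotient.mk r : R ⧸ m ^ n) ≠ 0 := fun h0 => hr ((Submodule.Quotient.mk_eq_zero _).1 h0)
  obtain ⟨φ, hφ⟩ := exists_ne_zero_of_powerTorsion hf.injective hf.isInjective (G := R ⧸ m ^ n) (fun q => ⟨n, fun a ha => by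
    obtain ⟨q, rfl⟩ := Submodule.Quotient.mk_surjective _ q
    rw [← Submodule.Quotient.mk_smul, Submodule.Quotient.mk_eq_zero]
    exact Ideal.mul_mem_right _ _ ha⟩) hne
  refine hφ ?_
  rw [show (Submodule.Quotient.mk r : R ⧸ m ^ n) = r • Submodule.Quotient.mk 1 by
    rw [← Submodule.Quotient.mk_smul, smul_eq_mul, mul_one], map_smul]
  refine h _ fun a ha => ?_
  rw [← map_smul, ← Submodule.Quotient.mk_smul, (Submodule.Quotient.mk_eq_zero _).2 (by simpa using ha), map_zero]

/-- An endomorphism is a scalar on `E[m^n]`. -/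
lemma exists_scalar (hf : IsInjectiveHull f) (φ : Module.End R E) (n : ℕ) :
    ∃ r : R, ∀ x : E, (∀ a ∈ m ^ n, a • x = 0) → φ x = r • x := by
  have hbij := applyₗ_bijective_of_isFiniteLength hf (M := R ⧸ m ^ n) (isFiniteLength_quotient_pow n) (n := n) fun a ha q => by
    obtain ⟨q, rfl⟩ := Submodule.Quotient.mk_surjective _ q
    rw [← Submodule.Quotient.mk_smul, Submodule.Quotient.mk_eq_zero]
    exact Ideal.mul_mem_right _ _ ha
  obtain ⟨q, hq⟩ := hbij.2 (φ ∘ₗ LinearMap.applyₗ (Submodule.Quotient.mk 1))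
  obtain ⟨r, rfl⟩ := Submodule.Quotient.mk_surjective _ q
  refine ⟨r, fun x hx => ?_⟩
  let ψ : (R ⧸ m ^ n) →ₗ[R] E := Submodule.liftQ (m ^ n : Submodule R R) (LinearMap.toSpanSingleton R E x) fun a ha => by
    simpa using hx a ha
  have := (LinearMap.congr_fun hq ψ).symm
  change φ (ψ (Submodule.Quotient.mk 1)) = ψ (Submodule.Quotient.mk r) at this
  simpa only [ψ, Submodule.liftQ_apply, LinearMap.toSpanSingleton_apply, one_smul] using this

/-- The scalar through which a completed element acts on an element. -/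
noncomputable def actScalar (ξ : AdicCompletion m R) (n : ℕ) : R :=
  (Ideal.Quotient.mk_surjective (AdicCompletion.evalₐ m n ξ)).choose

omit [m.IsMaximal] [IsNoetherianRing R] in
lemma mk_actScalar (ξ : AdicCompletion m R) (n : ℕ) : Ideal.Quotient.mk _ (actScalar ξ n) = AdicCompletion.evalₐ m n ξ :=
  (Ideal.Quotient.mk_surjective (AdicCompletion.evalₐ m n ξ)).choose_spec

omit [m.IsMaximal] [IsNoetherianRing R] in
lemma actScalar_sub_mem (ξ : AdicCompletion m R) {n n' : ℕ} (h : n ≤ n') : actScalar ξ n' - actScalar ξ n ∈ m ^ n := by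
  obtain ⟨s, rfl⟩ := AdicCompletion.mk_surjective m R ξ
  rw [← Ideal.Quotient.eq, mk_actScalar]
  have h1 := congrArg (Ideal.Quotient.factor (Ideal.pow_le_pow_right h)) (mk_actScalar (AdicCompletion.mk m R s) n')
  rw [Ideal.Quotient.factor_mk] at h1
  rw [h1, AdicCompletion.evalₐ_mk, AdicCompletion.evalₐ_mk, Ideal.Quotient.factor_mk, Ideal.Quotient.eq]
  have h2 := s.2 h
  rw [SModEq.sub_mem, smul_eq_mul, Ideal.mul_top] at h2
  simpa using (m ^ n).neg_mem h2

/-- The action of the completion. -/
noncomputable def completionAct (hE : LocCoh.IsPowerTorsion m E) (ξ : AdicCompletion m R) (x : E) : E :=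
  actScalar ξ (hE x).choose • x

omit [m.IsMaximal] [IsNoetherianRing R] in
lemma completionAct_eq (hE : LocCoh.IsPowerTorsion m E) (ξ : AdicCompletion m R) (x : E) {n : ℕ} (hn : ∀ a ∈ m ^ n, a • x = 0)
    {r : R} (hr : Ideal.Quotient.mk _ r = AdicCompletion.evalₐ m n ξ) : completionAct hE ξ x = r • x := by
  have h1 : r • x = actScalar ξ n • x := by
    rw [← sub_eq_zero, ← sub_smul]
    exact hn _ (Ideal.Quotient.eq.1 (hr.trans (mk_actScalar ξ n).symm))
  rw [h1, completionAct]
  rcases le_total (hE x).choose n with h | h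
  · rw [eq_comm, ← sub_eq_zero, ← sub_smul]; exact (hE x).choose_spec _ (actScalar_sub_mem ξ h)
  · rw [← sub_eq_zero, ← sub_smul]; exact hn _ (actScalar_sub_mem ξ h)

omit [m.IsMaximal] [IsNoetherianRing R] in
lemma completionAct_eq' (hE : LocCoh.IsPowerTorsion m E) (ξ : AdicCompletion m R) (x : E) {n : ℕ} (hn : ∀ a ∈ m ^ n, a • x = 0) :
    completionAct hE ξ x = actScalar ξ n • x :=
  completionAct_eq hE ξ x hn (mk_actScalar ξ n)

/-- The completion maps to the endomorphisms of a power-torsion module. -/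
noncomputable def completionHom (hE : LocCoh.IsPowerTorsion m E) : AdicCompletion m R →ₐ[R] Module.End R E :=
  AlgHom.ofLinearMap
    { toFun := fun ξ =>
        { toFun := completionAct hE ξ
          map_add' := fun x y => by
            obtain ⟨a, ha⟩ := hE x
            obtain ⟨b, hb⟩ := hE y
            have hx : ∀ c ∈ m ^ (a + b), c • x = 0 := fun c hc => ha c (Ideal.pow_le_pow_right (by omega) hc)
            have hy : ∀ c ∈ m ^ (a + b), c • y = 0 := fun c hc => hb c (Ideal.pow_le_pow_right (by omega) hc)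
            rw [completionAct_eq' hE ξ x hx, completionAct_eq' hE ξ y hy,
              completionAct_eq' hE ξ (x + y) (n := a + b) (fun c hc => by rw [smul_add, hx c hc, hy c hc, add_zero]), smul_add]
          map_smul' := fun c x => by
            obtain ⟨a, ha⟩ := hE x
            rw [RingHom.id_apply, completionAct_eq' hE ξ x ha,
              completionAct_eq' hE ξ (c • x) (n := a) (fun d hd => by rw [smul_comm, ha d hd, smul_zero]), smul_comm] }
      map_add' := fun ξ η => LinearMap.ext fun x => by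
        obtain ⟨a, ha⟩ := hE x
        show completionAct hE (ξ + η) x = completionAct hE ξ x + completionAct hE η x
        rw [completionAct_eq hE (ξ + η) x ha (r := actScalar ξ a + actScalar η a) (by rw [map_add, map_add, mk_actScalar, mk_actScalar]),
          completionAct_eq' hE ξ x ha, completionAct_eq' hE η x ha, add_smul]
      map_smul' := fun c ξ => LinearMap.ext fun x => by
        obtain ⟨a, ha⟩ := hE x
        show completionAct hE (c • ξ) x = c • completionAct hE ξ x
        rw [completionAct_eq hE (c • ξ) x ha (r := c * actScalar ξ a)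
            (by rw [map_mul, map_smul, mk_actScalar, Algebra.smul_def]; rfl),
          completionAct_eq' hE ξ x ha, mul_smul] }
    (LinearMap.ext fun x => by
      obtain ⟨a, ha⟩ := hE x
      show completionAct hE 1 x = x
      rw [completionAct_eq hE 1 x ha (r := 1) (by rw [map_one, map_one]), one_smul])
    (fun ξ η => LinearMap.ext fun x => by
      obtain ⟨a, ha⟩ := hE x
      show completionAct hE (ξ * η) x = completionAct hE ξ (completionAct hE η x)
      rw [completionAct_eq' hE η x ha,
        completionAct_eq hE (ξ * η) x ha (r := actScalar ξ a * actScalar η a) (by rw [map_mul, map_mul, mk_actScalar, mk_actScalar]),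
        completionAct_eq' hE ξ _ (n := a) (fun d hd => by rw [smul_comm, ha d hd, smul_zero]), mul_smul])

theorem completionHom_bijective (hf : IsInjectiveHull f) :
    Function.Bijective (completionHom (isPowerTorsion_hull hf.toIsEssentialInj)) := by
  have hE := isPowerTorsion_hull hf.toIsEssentialInj
  constructor
  · refine (injective_iff_map_eq_zero _).2 fun ξ hξ => AdicCompletion.ext_evalₐ fun n => ?_
    rw [← mk_actScalar ξ n, map_zero, Ideal.Quotient.eq_zero_iff_mem]
    refine mem_pow_of_annihilates hf fun x hx => ?_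
    rw [← completionAct_eq' hE ξ x hx]
    exact LinearMap.congr_fun hξ x
  · intro φ
    choose r hr using exists_scalar hf φ
    have hc : ∀ {a b : ℕ}, a ≤ b → r a ≡ r b [SMOD (m ^ a • ⊤ : Submodule R R)] := fun {a b} hab => by
      rw [SModEq.sub_mem, smul_eq_mul, Ideal.mul_top]
      refine mem_pow_of_annihilates hf fun x hx => ?_
      rw [sub_smul, ← hr a x hx, ← hr b x (fun c hc => hx c (Ideal.pow_le_pow_right hab hc)), sub_self]
    refine ⟨AdicCompletion.mk m R ⟨r, hc⟩, LinearMap.ext fun x => ?_⟩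
    obtain ⟨a, ha⟩ := hE x
    show completionAct hE _ x = φ x
    rw [hr a x ha, completionAct_eq hE _ x ha (r := r a)]
    rw [AdicCompletion.evalₐ_mk]

/-- The hull of `R/m` is Artinian. -/
theorem isArtinian_hull (hf : IsInjectiveHull f) : IsArtinian R E := by
  have hE := isPowerTorsion_hull hf.toIsEssentialInj
  haveI : IsNoetherianRing (AdicCompletion m R) := Groth.Agent.S0543.result R m
  let Φ := completionHom hE
  let Ann : Submodule R E → Ideal (AdicCompletion m R) := fun N =>
    { carrier := {ξ | ∀ x ∈ N, Φ ξ x = 0}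
      zero_mem' := fun x _ => by rw [map_zero, LinearMap.zero_apply]
      add_mem' := fun {a b} ha hb x hx => by rw [map_add, LinearMap.add_apply, ha x hx, hb x hx, add_zero]
      smul_mem' := fun c a ha x hx => by rw [smul_eq_mul, map_mul, Module.End.mul_apply, ha x hx, map_zero] }
  have hrec : ∀ (N : Submodule R E) (x : E), (∀ ξ ∈ Ann N, Φ ξ x = 0) → x ∈ N := by
    intro N x h
    by_contra hx
    obtain ⟨φ, hφ⟩ := exists_ne_zero_of_powerTorsion hf.injective hf.isInjective (G := E ⧸ N) (fun q => by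
      obtain ⟨q, rfl⟩ := Submodule.mkQ_surjective N q
      obtain ⟨n, hn⟩ := hE q
      exact ⟨n, fun a ha => by rw [← map_smul, hn a ha, map_zero]⟩) (x := N.mkQ x)
      (fun h0 => hx ((Submodule.Quotient.mk_eq_zero N).1 h0))
    obtain ⟨ξ, hξ⟩ := (completionHom_bijective hf).2 (φ ∘ₗ N.mkQ)
    refine hφ ?_
    have h1 := h ξ fun y hy => by
      rw [show Φ ξ = φ ∘ₗ N.mkQ from hξ, LinearMap.comp_apply, Submodule.mkQ_apply, (Submodule.Quotient.mk_eq_zero N).2 hy, map_zero]
    rwa [show Φ ξ = φ ∘ₗ N.mkQ from hξ] at h1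
  have hanti : StrictAnti Ann := fun N N' h => lt_of_le_of_ne (fun ξ hξ x hx => hξ x (h.le hx)) fun he => h.not_ge
    fun x hx => hrec N x fun ξ hξ => (show ξ ∈ Ann N' from he.symm ▸ hξ) x hx
  exact ⟨hanti.wellFoundedLT.wf⟩

end Completion

end InjHullLib
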