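import Groth.Agent.InjHullLib.Noetherian

/-!
# Injective modules and change of rings
-/

universe u v w

namespace InjHullLib

open InjHull TensorProduct

variable {R : Type u} [CommRing R]

/-- The core of the localisation of essential extensions. -/
lemma exists_smul_mem_localized [IsNoetherianRing R] (S : Submonoid R) {M : Type u} [AddCommGroup M] [Module R M]
    {N : Submodule R M} (hN : ∀ N' : Submodule R M, N' ≠ ⊥ → N' ⊓ N ≠ ⊥) {x : LocalizedModule S M} (hx : x ≠ 0) :
    ∃ a : R, a • x ∈ Submodule.localized₀ S (LocalizedModule.mkLinearMap S M) N ∧ a • x ≠ 0 := by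
  induction x using LocalizedModule.induction_on with
  | h m s =>
  obtain ⟨q, ⟨t, rfl⟩, hmax⟩ := set_has_maximal_iff_noetherian.2 ‹IsNoetherianRing R›
    {q : Ideal R | ∃ t : S, q = LinearMap.ker (LinearMap.toSpanSingleton R M ((t : R) • m))} ⟨_, 1, rfl⟩
  set m' := (t : R) • m with hm'
  have hstable : ∀ (u : S) (r : R), (u : R) • r • m' = 0 → r • m' = 0 := by
    intro u r h
    by_contra hne
    refine hmax _ ⟨u * t, rfl⟩ (lt_of_le_of_ne (fun z hz => ?_) fun heq => ?_)
    · rw [LinearMap.mem_ker, LinearMap.toSpanSingleton_apply] at hz ⊢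
      rw [Submonoid.coe_mul, mul_smul, ← hm', smul_comm, hz, smul_zero]
    · apply hne
      have : r ∈ LinearMap.ker (LinearMap.toSpanSingleton R M (((u * t : S) : R) • m)) := by
        rw [LinearMap.mem_ker, LinearMap.toSpanSingleton_apply, Submonoid.coe_mul, mul_smul, ← hm', smul_comm]; exact h
      rw [← heq, LinearMap.mem_ker, LinearMap.toSpanSingleton_apply] at this
      exact this
  have hm0 : m' ≠ 0 := by
    intro h
    refine hx ?_
    rw [← LocalizedModule.zero_mk s, LocalizedModule.mk_eq]
    refine ⟨t, ?_⟩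
    simp only [Submonoid.smul_def, smul_zero]
    rw [smul_comm, ← hm', h, smul_zero]
  obtain ⟨y, hy, hy0⟩ := Submodule.exists_mem_ne_zero_of_ne_bot (hN (Submodule.span R {m'}) (by simpa using hm0))
  obtain ⟨a, rfl⟩ := Submodule.mem_span_singleton.1 (Submodule.mem_inf.1 hy).1
  refine ⟨a, ?_, ?_⟩
  · rw [Submodule.mem_localized₀]
    refine ⟨a • m', (Submodule.mem_inf.1 hy).2, t * s, ?_⟩
    rw [← IsLocalizedModule.mk_eq_mk', LocalizedModule.smul'_mk, LocalizedModule.mk_eq]
    refine ⟨1, ?_⟩
    simp only [Submonoid.smul_def, Submonoid.coe_mul, Submonoid.coe_one, one_smul, hm', smul_smul]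
    congr 1; ring
  · intro h
    rw [LocalizedModule.smul'_mk, ← LocalizedModule.zero_mk s, LocalizedModule.mk_eq] at h
    obtain ⟨u, hu⟩ := h
    simp only [Submonoid.smul_def, smul_zero] at hu
    refine hy0 (hstable (u * s) a ?_)
    rw [hm', Submonoid.coe_mul, smul_smul, smul_smul]
    rw [smul_smul, smul_smul] at hu
    rw [show (u : R) * (s : R) * a * (t : R) = (t : R) * ((u : R) * (s : R) * a) by ring, mul_smul, hu, smul_zero]

theorem localized_essential [IsNoetherianRing R] (S : Submonoid R) {M : Type u} [AddCommGroup M] [Module R M]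
    (N : Submodule R M) (hN : ∀ N' : Submodule R M, N' ≠ ⊥ → N' ⊓ N ≠ ⊥)
    (L : Submodule (Localization S) (LocalizedModule S M)) (hL : L ≠ ⊥) : L ⊓ Submodule.localized S N ≠ ⊥ := by
  obtain ⟨x, hx, hx0⟩ := Submodule.exists_mem_ne_zero_of_ne_bot hL
  obtain ⟨a, ha, ha0⟩ := exists_smul_mem_localized S hN hx0
  intro hbot
  refine ha0 ((Submodule.mem_bot (Localization S)).1 (hbot ▸ Submodule.mem_inf.2 ⟨?_, ha⟩))
  rw [← IsScalarTower.algebraMap_smul (Localization S) a x]
  exact L.smul_mem _ hx

/-- Localisations of injective modules over Noetherian rings are injective. -/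
theorem injective_localizedModule [IsNoetherianRing R] (S : Submonoid R) {I : Type u} [AddCommGroup I] [Module R I]
    (hI : Module.Injective R I) : Module.Injective (Localization S) (LocalizedModule S I) := by
  refine Module.Baer.injective fun L g => ?_
  let a : Ideal R := L.comap (algebraMap R (Localization S))
  let g₀ : a →ₗ[R] LocalizedModule S I :=
    { toFun := fun x => g ⟨algebraMap R _ x.1, x.2⟩
      map_add' := fun x y => by rw [← map_add]; congr 1; exact Subtype.ext (map_add _ _ _)
      map_smul' := fun r x => by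
        rw [RingHom.id_apply, ← IsScalarTower.algebraMap_smul (Localization S) r (g _), ← map_smul]
        congr 1; exact Subtype.ext (map_mul _ _ _) }
  haveI : Module.FinitePresentation R a :=
    Module.finitePresentation_of_finite R a
  obtain ⟨h, s, hhs⟩ := Module.FinitePresentation.exists_lift_of_isLocalizedModule S (LocalizedModule.mkLinearMap S I) g₀
  obtain ⟨H, hH⟩ := exists_extend hI (Submodule.subtype a) (Submodule.injective_subtype _) h
  refine ⟨LinearMap.toSpanSingleton _ _ (LocalizedModule.mk (H 1) s), fun x hx => ?_⟩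
  obtain ⟨⟨r, t⟩, hrt⟩ := IsLocalization.surj S x
  have hra : r ∈ a := by
    show algebraMap R (Localization S) r ∈ L
    rw [← hrt]; exact L.mul_mem_right _ hx
  have h1 := LinearMap.congr_fun hhs ⟨r, hra⟩
  have h2 := LinearMap.congr_fun hH ⟨r, hra⟩
  simp only [LinearMap.comp_apply, Submodule.subtype_apply] at h1 h2
  have h3 : g₀ ⟨r, hra⟩ = (t : R) • g ⟨x, hx⟩ := by
    rw [← IsScalarTower.algebraMap_smul (Localization S) (t : R) (g _), ← map_smul]
    show g _ = g _
    congr 1; exact Subtype.ext (hrt.symm.trans (mul_comm _ _))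
  rw [LinearMap.toSpanSingleton_apply]
  -- compare after multiplying by `t` and `s`
  apply (Module.End.isUnit_iff _).1 (IsLocalizedModule.map_units (LocalizedModule.mkLinearMap S I) (t * s)) |>.1
  show ((t * s : S) : R) • (x • LocalizedModule.mk (H 1) s) = ((t * s : S) : R) • g ⟨x, hx⟩
  rw [LinearMap.smul_apply, h3, Submonoid.smul_def, smul_smul] at h1
  rw [Submonoid.coe_mul, mul_comm (t : R), ← h1, mul_comm, mul_smul, smul_comm (t : R),
    ← IsScalarTower.algebraMap_smul (Localization S) (t : R) (x • _), smul_smul, mul_comm (algebraMap R _ _), hrt,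
    IsScalarTower.algebraMap_smul, smul_comm, ← Submonoid.smul_def,
    show s • LocalizedModule.mk (H 1) s = LocalizedModule.mk (H 1) 1 from LocalizedModule.mk_cancel (m := H 1) s ▸ (LocalizedModule.smul'_mk _ _ _),
    ← LocalizedModule.mkLinearMap_apply, ← map_smul, ← map_smul, smul_eq_mul, mul_one, h2]

theorem isInjectiveHull_localizedModule_map [IsNoetherianRing R] (S : Submonoid R) {M E : Type u} [AddCommGroup M] [Module R M]
    [AddCommGroup E] [Module R E] {f : M →ₗ[R] E} (hf : IsInjectiveHull f) :
    IsInjectiveHull (LocalizedModule.map S f) := by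
  refine ⟨⟨LocalizedModule.map_injective S f hf.injective, fun L hL hbot => ?_⟩, injective_localizedModule S hf.isInjective⟩
  refine localized_essential S (LinearMap.range f) hf.essential L hL (le_antisymm ?_ bot_le)
  rw [← hbot]
  refine inf_le_inf_left _ ?_
  intro y hy
  obtain ⟨m, ⟨n, rfl⟩, s, rfl⟩ := (Submodule.mem_localized₀ _ _ _ y).1 hy
  refine ⟨LocalizedModule.mk n s, ?_⟩
  rw [← IsLocalizedModule.mk_eq_mk']
  exact LocalizedModule.map_mk S f n s

/-- Restriction of scalars along a flat map preserves injectivity. -/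
theorem injective_restrictScalars (S : Type u) [CommRing S] [Algebra R S] [Module.Flat R S] {E : Type u} [AddCommGroup E]
    [Module S E] [Module R E] [IsScalarTower R S E] (hE : Module.Injective S E) : Module.Injective R E := by
  refine ⟨fun A B _ _ _ _ f hf g => ?_⟩
  have hinj : Function.Injective (f.baseChange S) := Module.Flat.lTensor_preserves_injective_linearMap f hf
  obtain ⟨h, hh⟩ := hE.out (f.baseChange S) hinj (g.liftBaseChange S)
  refine ⟨(h.restrictScalars R) ∘ₗ (TensorProduct.mk R S B 1), fun x => ?_⟩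
  have := hh (1 ⊗ₜ x)
  simpa using this

/-- Along an epimorphism of rings injectivity descends. -/
theorem injective_of_isEpi (S : Type u) [CommRing S] [Algebra R S] [Algebra.IsEpi R S] {E : Type u} [AddCommGroup E]
    [Module S E] [Module R E] [IsScalarTower R S E] (hE : Module.Injective R E) : Module.Injective S E := by
  refine ⟨fun A B _ _ _ _ f hf g => ?_⟩
  letI := Module.compHom A (algebraMap R S)
  letI := Module.compHom B (algebraMap R S)
  haveI : IsScalarTower R S A := IsScalarTower.of_algebraMap_smul fun _ _ => rfl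
  haveI : IsScalarTower R S B := IsScalarTower.of_algebraMap_smul fun _ _ => rfl
  obtain ⟨h, hh⟩ := hE.out (f.restrictScalars R) hf (g.restrictScalars R)
  refine ⟨{ h with map_smul' := fun s b => ?_ }, hh⟩
  let T : S ⊗[R] S →ₗ[R] E := TensorProduct.lift (LinearMap.mk₂ R (fun s t => s • h (t • b))
    (fun a b c => add_smul a b _) (fun c a d => smul_assoc c a _)
    (fun a c d => by rw [add_smul, map_add, smul_add]) (fun c a d => by rw [smul_assoc, map_smul, smul_comm]))
  have h1 := congrArg T (Algebra.isEpi_iff_forall_one_tmul_eq (R := R) (A := S) |>.1 ‹_› s)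
  simpa [T] using h1

/-- Torsion-free divisible modules are injective. -/
theorem injective_of_divisible {M : Type u} [AddCommGroup M] [Module R M] [NoZeroSMulDivisors R M]
    (hdiv : ∀ r : R, r ≠ 0 → Function.Surjective (fun m : M => r • m)) : Module.Injective R M := by
  refine Module.Baer.injective fun a g => ?_
  by_cases ha : ∀ x : a, x = 0
  · exact ⟨0, fun x hx => by rw [ha ⟨x, hx⟩, map_zero]; rfl⟩
  push_neg at ha
  obtain ⟨⟨b, hb⟩, hb0⟩ := ha
  have hb0' : b ≠ 0 := fun h => hb0 (Subtype.ext h)
  obtain ⟨m, hm⟩ := hdiv b hb0' (g ⟨b, hb⟩)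
  refine ⟨LinearMap.toSpanSingleton R M m, fun x hx => ?_⟩
  have h1 : b • g ⟨x, hx⟩ = x • g ⟨b, hb⟩ := by
    rw [← map_smul, ← map_smul]; congr 1; exact Subtype.ext (mul_comm _ _)
  have h2 : b • (x • m - g ⟨x, hx⟩) = 0 := by
    rw [smul_sub, smul_comm, show b • m = g ⟨b, hb⟩ from hm, h1, sub_self]
  exact sub_eq_zero.1 ((NoZeroSMulDivisors.eq_zero_or_eq_zero_of_smul_eq_zero h2).resolve_left hb0')

end InjHullLib
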