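import Groth.Agent.InjHullLib.Local
import Groth.Agent.InjHullLib.Change

/-!
# Hulls over quotients and localisations; recognition of hulls by lengths
-/

universe u v w

namespace InjHullLib

open InjHull IsLocalRing

variable {R : Type u} [CommRing R]

/-- The part of a hull killed by an ideal is a hull over the quotient. -/
theorem exists_hull_torsionBy (b : Ideal R) {M E : Type u} [AddCommGroup M] [Module R M] [Module (R ⧸ b) M]
    [IsScalarTower R (R ⧸ b) M] [AddCommGroup E] [Module R E] {f : M →ₗ[R] E} (hf : IsInjectiveHull f) :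
    ∃ g : M →ₗ[R ⧸ b] LocCoh.torsionBy b E, IsInjectiveHull g ∧ ∀ x : M, ((g x : LocCoh.torsionBy b E) : E) = f x := by
  have hsurj : Function.Surjective (algebraMap R (R ⧸ b)) := Ideal.Quotient.mk_surjective
  have hmem : ∀ x, f x ∈ LocCoh.torsionBy b E := fun x => mem_torsionBy_iff.2 fun a ha => by
    rw [← map_smul, ← IsScalarTower.algebraMap_smul (R ⧸ b) a x, Ideal.Quotient.algebraMap_eq,
      Ideal.Quotient.eq_zero_iff_mem.2 ha, zero_smul, map_zero]
  let g := LinearMap.extendScalarsOfSurjective hsurj (f.codRestrict _ hmem)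
  refine ⟨g, ⟨isEssentialInj_of_exists_smul (fun x y h => hf.injective (congrArg Subtype.val h)) fun x hx => ?_, ?_⟩, fun x => rfl⟩
  · obtain ⟨r, ⟨a, ha⟩, hr⟩ := exists_smul_mem_of_essential hf.toIsEssentialInj (x := (x : E)) (fun h => hx (Subtype.ext h))
    exact ⟨Ideal.Quotient.mk b r, ⟨a, Subtype.ext ha⟩, fun h => hr (congrArg Subtype.val h)⟩
  · refine ⟨fun A B _ _ _ _ i hi φ => ?_⟩
    letI := Module.compHom A (algebraMap R (R ⧸ b))
    letI := Module.compHom B (algebraMap R (R ⧸ b))
    haveI : IsScalarTower R (R ⧸ b) A := IsScalarTower.of_algebraMap_smul fun _ _ => rfl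
    haveI : IsScalarTower R (R ⧸ b) B := IsScalarTower.of_algebraMap_smul fun _ _ => rfl
    obtain ⟨h, hh⟩ := hf.isInjective.out (i.restrictScalars R) hi ((LocCoh.torsionBy b E).subtype ∘ₗ φ.restrictScalars R)
    have hmem' : ∀ x, h x ∈ LocCoh.torsionBy b E := fun x => mem_torsionBy_iff.2 fun a ha => by
      rw [← map_smul, ← IsScalarTower.algebraMap_smul (R ⧸ b) a x, Ideal.Quotient.algebraMap_eq,
        Ideal.Quotient.eq_zero_iff_mem.2 ha, zero_smul, map_zero]
    exact ⟨LinearMap.extendScalarsOfSurjective hsurj (h.codRestrict _ hmem'), fun x => Subtype.ext (hh x)⟩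

section Localization

variable [IsNoetherianRing R] (p : Ideal R) [p.IsPrime] {E : Type u} [AddCommGroup E] [Module R E] {f : (R ⧸ p) →ₗ[R] E}

/-- Elements of `p` act locally nilpotently on an essential extension of `R/p`. -/
lemma exists_pow_smul_eq_zero_of_mem (hf : IsEssentialInj f) {s : R} (hs : s ∈ p) (x : E) : ∃ n : ℕ, s ^ n • x = 0 := by
  let K : ℕ →o Submodule R R := ⟨fun k => LinearMap.ker (LinearMap.toSpanSingleton R E (s ^ k • x)), fun a b hab r hr => by
    rw [LinearMap.mem_ker, LinearMap.toSpanSingleton_apply] at hr ⊢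
    rw [← Nat.sub_add_cancel hab, pow_add, mul_smul, smul_comm, hr, smul_zero]⟩
  obtain ⟨n, hn⟩ := monotone_stabilizes_iff_noetherian.2 ‹IsNoetherianRing R› K
  refine ⟨n, by_contra fun hne => ?_⟩
  obtain ⟨c, ⟨a, ha⟩, hc⟩ := exists_smul_mem_of_essential hf hne
  have h1 : c ∈ K (n + 1) := by
    show c ∈ LinearMap.ker (LinearMap.toSpanSingleton R E (s ^ (n + 1) • x))
    rw [LinearMap.mem_ker, LinearMap.toSpanSingleton_apply, pow_succ', mul_smul, smul_comm, ← ha, ← map_smul,
      Algebra.smul_def, Ideal.Quotient.algebraMap_eq, Ideal.Quotient.eq_zero_iff_mem.2 hs, zero_mul, map_zero]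
  rw [← hn (n + 1) (Nat.le_succ n)] at h1
  exact hc (by
    have h2 : c ∈ LinearMap.ker (LinearMap.toSpanSingleton R E (s ^ n • x)) := h1
    rwa [LinearMap.mem_ker, LinearMap.toSpanSingleton_apply] at h2)

theorem localizedModule_hull (S : Submonoid R) (hf : IsInjectiveHull f) :
    (((p : Set R) ∩ S).Nonempty → Subsingleton (LocalizedModule S E)) ∧ (Disjoint (p : Set R) S →
      Function.Bijective (LocalizedModule.mkLinearMap S E) ∧ ∃ g : (Localization S ⧸ p.map (algebraMap R (Localization S))) →ₗ[Localization S]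
        LocalizedModule S E, IsInjectiveHull g) := by
  constructor
  · rintro ⟨s, hsp, hsS⟩
    refine LocalizedModule.subsingleton_iff.2 fun x => ?_
    obtain ⟨n, hn⟩ := exists_pow_smul_eq_zero_of_mem p hf.toIsEssentialInj hsp x
    exact ⟨s ^ n, pow_mem hsS n, hn⟩
  · intro hd
    have hbij : ∀ s : S, Function.Bijective (fun x : E => (s : R) • x) := fun s =>
      smul_bijective_of_notMem p hf fun h => Set.disjoint_left.1 hd h s.2
    have hmk : Function.Bijective (LocalizedModule.mkLinearMap S E) := by
      refine ⟨fun x y h => ?_, fun y => ?_⟩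
      · rw [LocalizedModule.mkLinearMap_apply, LocalizedModule.mkLinearMap_apply, LocalizedModule.mk_eq] at h
        obtain ⟨u, hu⟩ := h
        simp only [one_smul, Submonoid.smul_def] at hu
        exact (hbij u).1 hu
      · induction y using LocalizedModule.induction_on with
        | h x s =>
          obtain ⟨z, hz⟩ := (hbij s).2 x
          refine ⟨z, ?_⟩
          rw [LocalizedModule.mkLinearMap_apply, LocalizedModule.mk_eq]
          refine ⟨1, ?_⟩
          simp only [one_smul, Submonoid.smul_def]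
          exact hz
    refine ⟨hmk, ?_⟩
    set ι := LocalizedModule.mkLinearMap S E with hι
    let e := ι (f 1)
    have hkill : ∀ x ∈ p.map (algebraMap R (Localization S)), x • e = 0 := by
      intro x hx
      induction hx using Submodule.span_induction with
      | zero => rw [zero_smul]
      | add a b _ _ ha hb => rw [add_smul, ha, hb, add_zero]
      | smul c a _ ha => rw [smul_assoc, ha, smul_zero]
      | mem a ha =>
        obtain ⟨a, ha, rfl⟩ := ha
        rw [IsScalarTower.algebraMap_smul, ← map_smul ι, (annihilator_smul_one p hf.injective a).2 ha, map_zero]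
    refine ⟨Submodule.liftQ _ (LinearMap.toSpanSingleton (Localization S) _ e) (fun x hx => by
        rw [LinearMap.mem_ker, LinearMap.toSpanSingleton_apply]; exact hkill x hx),
      ⟨isEssentialInj_of_exists_smul ?_ fun y hy => ?_, injective_localizedModule S hf.isInjective⟩⟩
    · refine (injective_iff_map_eq_zero _).2 fun q hq => ?_
      obtain ⟨x, rfl⟩ := Submodule.Quotient.mk_surjective _ q
      rw [Submodule.liftQ_apply, LinearMap.toSpanSingleton_apply] at hq
      obtain ⟨⟨r, s⟩, hrs⟩ := IsLocalization.surj S x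
      have h1 : algebraMap R (Localization S) r • e = 0 := by rw [← hrs, mul_comm, mul_smul, hq, smul_zero]
      rw [IsScalarTower.algebraMap_smul, ← map_smul ι, map_eq_zero_iff ι hmk.1, annihilator_smul_one p hf.injective] at h1
      rw [Submodule.Quotient.mk_eq_zero, IsLocalization.eq_mk'_iff_mul_eq.2 hrs]
      exact IsLocalization.mk'_mem_iff.2 (Ideal.mem_map_of_mem _ h1)
    · obtain ⟨x, rfl⟩ := hmk.2 y
      obtain ⟨r, ⟨a, ha⟩, hr⟩ := exists_smul_mem_of_essential hf.toIsEssentialInj (x := x) (fun h => hy (by rw [h, map_zero]))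
      obtain ⟨a, rfl⟩ := Ideal.Quotient.mk_surjective a
      refine ⟨algebraMap R (Localization S) r, ⟨Submodule.Quotient.mk (algebraMap R (Localization S) a), ?_⟩, ?_⟩
      · rw [Submodule.liftQ_apply, LinearMap.toSpanSingleton_apply, IsScalarTower.algebraMap_smul, IsScalarTower.algebraMap_smul,
          ← map_smul ι, ← map_smul ι, ← ha, ← map_smul, Algebra.smul_def, mul_one]
        rfl
      · rw [IsScalarTower.algebraMap_smul, ← map_smul ι]
        exact fun h => hr (hmk.1 (h.trans (map_zero ι).symm))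

end Localization

section Recognition

variable [IsLocalRing R] [IsNoetherianRing R]

/-- The socle dual: maps out of the residue field are the socle. -/
noncomputable def homResidueEquiv (I : Type v) [AddCommGroup I] [Module R I] (a : Ideal R) :
    ((R ⧸ a) →ₗ[R] I) ≃ₗ[R] LocCoh.torsionBy a I where
  toFun φ := ⟨φ 1, mem_torsionBy_iff.2 fun r hr => by
    rw [← map_smul, Algebra.smul_def, Ideal.Quotient.algebraMap_eq, Ideal.Quotient.eq_zero_iff_mem.2 hr, zero_mul, map_zero]⟩
  map_add' _ _ := rfl
  map_smul' _ _ := rfl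
  invFun x := Submodule.liftQ a (LinearMap.toSpanSingleton R I x) fun r hr => by
    simpa using mem_torsionBy_iff.1 x.2 r hr
  left_inv φ := Submodule.linearMap_qext _ (LinearMap.ext_ring (one_smul R (φ 1)))
  right_inv x := Subtype.ext (one_smul R (x : I))

/-- Recognition of the hull: torsion, simple socle and enough length. -/
theorem exists_hull_of_length {I : Type u} [AddCommGroup I] [Module R I] (htors : LocCoh.IsPowerTorsion (maximalIdeal R) I)
    (hsoc : Module.length R (LocCoh.torsionBy (maximalIdeal R) I) = 1) (a : ℕ → Ideal R)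
    (hcof : ∀ n : ℕ, ∃ N : ℕ, maximalIdeal R ^ N ≤ a n) (hcof' : ∀ N : ℕ, ∃ n : ℕ, a n ≤ maximalIdeal R ^ N)
    (hlen : ∀ n : ℕ, Module.length R (R ⧸ a n) ≤ Module.length R ((R ⧸ a n) →ₗ[R] I)) :
    ∃ f : ResidueField R →ₗ[R] I, IsInjectiveHull f := by
  letI := Ideal.Quotient.field (maximalIdeal R)
  obtain ⟨E, _, _, f, hf⟩ := exists_injectiveHull (R := R) (ResidueField R)
  set S := LocCoh.torsionBy (maximalIdeal R) I
  have hrk : Module.length (R ⧸ maximalIdeal R) S = 1 := by
    rw [← hsoc]
    exact (Module.length_eq_of_surjective (R := R ⧸ maximalIdeal R) (S := R) (M := S) Ideal.Quotient.mk_surjective).symm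
  haveI : IsSimpleModule (R ⧸ maximalIdeal R) S := Module.length_eq_one_iff.1 hrk
  haveI : Module.Finite (R ⧸ maximalIdeal R) S := inferInstance
  obtain ⟨g, hg⟩ := exists_embedding_pi hf htors 1 (isSimpleModule_iff_finrank_eq_one.1 ‹_›)
  let g' : I →ₗ[R] E := LinearMap.proj 0 ∘ₗ g
  have hg' : Function.Injective g' := fun x y h => hg (funext fun i => by rw [Subsingleton.elim i 0]; exact h)
  have hsurj : Function.Surjective g' := fun x => by
    obtain ⟨N, hN⟩ := isPowerTorsion_hull_local hf x
    obtain ⟨n, hn⟩ := hcof' N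
    obtain ⟨N', hN'⟩ := hcof n
    have hfl : IsFiniteLength R (R ⧸ a n) :=
      Module.length_ne_top_iff.1 (ne_top_of_le_ne_top (Module.length_ne_top_iff.2
        (isFiniteLength_quotient_pow (m := maximalIdeal R) N'))
        (Module.length_le_of_surjective (Submodule.factor hN') (Submodule.factor_surjective hN')))
    have hkill : ∀ c ∈ maximalIdeal R ^ N', ∀ q : R ⧸ a n, c • q = 0 := fun c hc q => by
      obtain ⟨q, rfl⟩ := Submodule.Quotient.mk_surjective _ q
      rw [← Submodule.Quotient.mk_smul, Submodule.Quotient.mk_eq_zero]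
      exact Ideal.mul_mem_right _ _ (hN' hc)
    have hE := length_hom (m := maximalIdeal R) hf hfl hkill
    let Φ : ((R ⧸ a n) →ₗ[R] I) →ₗ[R] ((R ⧸ a n) →ₗ[R] E) := g'.compRight R
    have hΦ : Function.Injective Φ := fun u v h => LinearMap.ext fun q => hg' (LinearMap.congr_fun h q)
    obtain ⟨_, _⟩ := isFiniteLength_iff_isNoetherian_isArtinian.1
      ((Module.length_ne_top_iff (M := (R ⧸ a n) →ₗ[R] E)).1 (by rw [hE]; exact Module.length_ne_top_iff.2 hfl))
    have htop : LinearMap.range Φ = ⊤ := by_contra fun h => by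
      have h1 := Submodule.length_lt h
      rw [← (LinearEquiv.ofInjective Φ hΦ).length_eq, hE] at h1
      exact (hlen n).not_gt h1
    obtain ⟨u, hu⟩ := LinearMap.range_eq_top.1 htop ((homResidueEquiv E (a n)).symm
      ⟨x, mem_torsionBy_iff.2 fun r hr => hN r (hn hr)⟩)
    refine ⟨u 1, ?_⟩
    have h2 := congrArg (fun φ => ((homResidueEquiv E (a n)) φ : E)) hu
    simp only [LinearEquiv.apply_symm_apply] at h2
    exact h2
  let e := LinearEquiv.ofBijective g' ⟨hg', hsurj⟩
  exact ⟨e.symm.toLinearMap ∘ₗ f, ⟨isEssentialInj_equiv hf.toIsEssentialInj e.symm, injective_of_equiv hf.isInjective e.symm⟩⟩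

end Recognition

end InjHullLib
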