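import Groth.Prelude.Def_Wider
import Mathlib

/-!
# Essential extensions and injective hulls
-/

universe u v w

namespace InjHullLib

open InjHull

section Essential

variable {R : Type u} [CommRing R] {M : Type v} {E : Type v} [AddCommGroup M] [Module R M]
  [AddCommGroup E] [Module R E]

lemma exists_smul_mem_of_essential {f : M →ₗ[R] E} (hf : IsEssentialInj f) {x : E} (hx : x ≠ 0) :
    ∃ r : R, r • x ∈ LinearMap.range f ∧ r • x ≠ 0 := by
  have h := hf.essential (Submodule.span R {x}) (by simpa using hx)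
  obtain ⟨y, hy, hy0⟩ := Submodule.exists_mem_ne_zero_of_ne_bot h
  obtain ⟨r, rfl⟩ := Submodule.mem_span_singleton.1 (Submodule.mem_inf.1 hy).1
  exact ⟨r, (Submodule.mem_inf.1 hy).2, hy0⟩

lemma isEssentialInj_of_exists_smul {f : M →ₗ[R] E} (hinj : Function.Injective f)
    (h : ∀ x : E, x ≠ 0 → ∃ r : R, r • x ∈ LinearMap.range f ∧ r • x ≠ 0) : IsEssentialInj f := by
  refine ⟨hinj, fun N hN => ?_⟩
  obtain ⟨x, hx, hx0⟩ := Submodule.exists_mem_ne_zero_of_ne_bot hN
  obtain ⟨r, hr, hr0⟩ := h x hx0
  intro hbot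
  exact hr0 ((Submodule.mem_bot R).1 (hbot ▸ Submodule.mem_inf.2 ⟨N.smul_mem r hx, hr⟩))

/-- A map out of an essential extension which is injective on the base is injective. -/
lemma injective_of_comp_essential {P : Type w} [AddCommGroup P] [Module R P] {f : M →ₗ[R] E} (hf : IsEssentialInj f)
    (g : E →ₗ[R] P) (hgf : Function.Injective (g ∘ₗ f)) : Function.Injective g := by
  rw [← LinearMap.ker_eq_bot]
  by_contra h
  obtain ⟨x, hx, hx0⟩ := Submodule.exists_mem_ne_zero_of_ne_bot (hf.essential _ h)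
  obtain ⟨hx1, ⟨m, rfl⟩⟩ := Submodule.mem_inf.1 hx
  have : m = 0 := hgf (by simpa using LinearMap.mem_ker.1 hx1)
  exact hx0 (by rw [this, map_zero])

lemma isEssentialInj_comp {L : Type v} [AddCommGroup L] [Module R L] {f : M →ₗ[R] E} {g : E →ₗ[R] L}
    (hf : IsEssentialInj f) (hg : IsEssentialInj g) : IsEssentialInj (g ∘ₗ f) := by
  refine ⟨hg.injective.comp hf.injective, fun N hN hbot => ?_⟩
  have h := hg.essential N hN
  have h2 : Submodule.comap g N ≠ ⊥ := fun hc => by
    obtain ⟨x, hx, hx0⟩ := Submodule.exists_mem_ne_zero_of_ne_bot h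
    obtain ⟨hxN, ⟨e, rfl⟩⟩ := Submodule.mem_inf.1 hx
    have : e = 0 := (Submodule.mem_bot R).1 (hc ▸ Submodule.mem_comap.2 hxN)
    exact hx0 (by rw [this, map_zero])
  obtain ⟨x, hx, hx0⟩ := Submodule.exists_mem_ne_zero_of_ne_bot (hf.essential _ h2)
  obtain ⟨hxN, ⟨m, rfl⟩⟩ := Submodule.mem_inf.1 hx
  have : g (f m) = 0 := (Submodule.mem_bot R).1 (hbot ▸ Submodule.mem_inf.2 ⟨hxN, ⟨m, rfl⟩⟩)
  exact hx0 (hg.injective (this.trans (map_zero g).symm))

lemma isEssentialInj_equiv {L : Type v} [AddCommGroup L] [Module R L] {f : M →ₗ[R] E} (hf : IsEssentialInj f)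
    (e : E ≃ₗ[R] L) : IsEssentialInj (e.toLinearMap ∘ₗ f) :=
  isEssentialInj_comp hf ⟨e.injective, fun N hN => by rwa [LinearEquiv.range, inf_top_eq]⟩

lemma isEssentialInj_comp_equiv {L : Type v} [AddCommGroup L] [Module R L] {f : M →ₗ[R] E} (hf : IsEssentialInj f)
    (e : L ≃ₗ[R] M) : IsEssentialInj (f ∘ₗ e.toLinearMap) :=
  ⟨hf.injective.comp e.injective, fun N hN => by
    rw [LinearMap.range_comp, LinearEquiv.range, Submodule.map_top]; exact hf.essential N hN⟩

end Essential

section Injective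

variable {R : Type u} [CommRing R]

/-- Extension along an injective map, universe `u`. -/
lemma exists_extend {I : Type u} [AddCommGroup I] [Module R I] (hI : Module.Injective R I)
    {A B : Type u} [AddCommGroup A] [Module R A] [AddCommGroup B] [Module R B]
    (i : A →ₗ[R] B) (hi : Function.Injective i) (g : A →ₗ[R] I) : ∃ h : B →ₗ[R] I, h ∘ₗ i = g := by
  obtain ⟨h, hh⟩ := hI.out i hi g
  exact ⟨h, LinearMap.ext hh⟩

/-- A retract of an injective module is injective. -/
lemma injective_of_retract {I E : Type u} [AddCommGroup I] [Module R I] [AddCommGroup E] [Module R E]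
    (hI : Module.Injective R I) (i : E →ₗ[R] I) (p : I →ₗ[R] E) (hpi : ∀ x, p (i x) = x) : Module.Injective R E := by
  refine ⟨fun A B _ _ _ _ f hf g => ?_⟩
  obtain ⟨h, hh⟩ := hI.out f hf (i ∘ₗ g)
  exact ⟨p ∘ₗ h, fun x => by simp [hh x, hpi]⟩

lemma injective_of_equiv {I E : Type u} [AddCommGroup I] [Module R I] [AddCommGroup E] [Module R E]
    (hI : Module.Injective R I) (e : I ≃ₗ[R] E) : Module.Injective R E :=
  injective_of_retract hI e.symm.toLinearMap e.toLinearMap e.apply_symm_apply

/-- An injective submodule is a direct summand. -/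
lemma exists_isCompl_of_injective {I : Type u} [AddCommGroup I] [Module R I] (E : Submodule R I)
    (hE : Module.Injective R E) : ∃ C : Submodule R I, IsCompl E C := by
  obtain ⟨p, hp⟩ := exists_extend hE E.subtype (Submodule.injective_subtype E) LinearMap.id
  exact ⟨LinearMap.ker p, LinearMap.isCompl_of_proj fun x => LinearMap.congr_fun hp x⟩

/-- A direct summand of an injective module is injective. -/
lemma injective_of_isCompl {I : Type u} [AddCommGroup I] [Module R I] (hI : Module.Injective R I)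
    (E C : Submodule R I) (h : IsCompl E C) : Module.Injective R E :=
  injective_of_retract hI E.subtype (E.projectionOnto C h) fun x => Submodule.projectionOnto_apply_left h x

/-- An injective module has no proper essential extension. -/
lemma surjective_of_injective_essential {M E : Type u} [AddCommGroup M] [Module R M] [AddCommGroup E] [Module R E]
    (hM : Module.Injective R M) {f : M →ₗ[R] E} (hf : IsEssentialInj f) : Function.Surjective f := by
  obtain ⟨p, hp⟩ := exists_extend hM f hf.injective LinearMap.id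
  intro x
  have hpi := injective_of_comp_essential hf p (by rw [hp]; exact fun a b h => h)
  exact ⟨p x, hpi (LinearMap.congr_fun hp (p x))⟩

/-- The crucial step: a submodule of an injective module without proper essential extensions inside it is injective. -/
lemma injective_of_no_essential {I : Type u} [AddCommGroup I] [Module R I] (hI : Module.Injective R I)
    (E : Submodule R I)
    (h : ∀ E' : Submodule R I, E ≤ E' → (∀ N : Submodule R I, N ≤ E' → N ≠ ⊥ → N ⊓ E ≠ ⊥) → E' = E) :
    Module.Injective R E := by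
  -- a maximal submodule meeting `E` trivially
  obtain ⟨C, hC⟩ : ∃ C : Submodule R I, Maximal (fun C => Disjoint E C) C := by
    refine zorn_le₀ {C | Disjoint E C} fun c hc hchain => ?_
    rcases c.eq_empty_or_nonempty with rfl | hne
    · exact ⟨⊥, disjoint_bot_right, by simp⟩
    refine ⟨sSup c, ?_, fun z hz => le_sSup hz⟩
    rw [Set.mem_setOf_eq, Submodule.disjoint_def]
    intro x hxE hx
    obtain ⟨z, hz, hxz⟩ := (Submodule.mem_sSup_of_directed hne hchain.directedOn).1 hx
    exact Submodule.disjoint_def.1 (hc hz) x hxE hxz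
  let π := C.mkQ
  have hinj : Function.Injective (π ∘ₗ E.subtype) := by
    rw [← LinearMap.ker_eq_bot, LinearMap.ker_comp, Submodule.ker_mkQ, ← Submodule.disjoint_iff_comap_eq_bot]
    exact hC.1
  obtain ⟨g, hg⟩ := exists_extend hI (π ∘ₗ E.subtype) hinj E.subtype
  have hess : IsEssentialInj (π ∘ₗ E.subtype) := by
    refine ⟨hinj, fun N hN hbot => hN ?_⟩
    have hle : C ≤ N.comap π := fun x hx => by
      rw [Submodule.mem_comap, Submodule.mkQ_apply, (Submodule.Quotient.mk_eq_zero C).2 hx]; exact N.zero_mem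
    have hdisj : Disjoint E (N.comap π) := by
      rw [Submodule.disjoint_def]
      intro x hxE hx
      have h1 : π x ∈ N ⊓ LinearMap.range (π ∘ₗ E.subtype) := ⟨hx, ⟨x, hxE⟩, rfl⟩
      rw [hbot, Submodule.mem_bot] at h1
      exact congrArg Subtype.val (hinj (h1.trans (map_zero (π ∘ₗ E.subtype)).symm) : (⟨x, hxE⟩ : E) = 0)
    have := hC.2 hdisj hle
    rw [← Submodule.map_comap_eq_of_surjective (f := π) (Submodule.mkQ_surjective C) N, Submodule.eq_bot_iff]
    rintro _ ⟨x, hx, rfl⟩
    exact (Submodule.Quotient.mk_eq_zero C).2 (this hx)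
  have hginj := injective_of_comp_essential hess g (by rw [hg]; exact Submodule.injective_subtype E)
  have hrange : LinearMap.range g = E := h _ (fun x hx => ⟨π x, LinearMap.congr_fun hg ⟨x, hx⟩⟩) fun N hN hN0 hbot => by
    obtain ⟨x, hx, hx0⟩ := Submodule.exists_mem_ne_zero_of_ne_bot hN0
    obtain ⟨q, rfl⟩ := hN hx
    obtain ⟨r, ⟨e, he⟩, hr0⟩ := exists_smul_mem_of_essential hess (x := q) (fun h0 => hx0 (by rw [h0, map_zero]))
    have h1 : g (r • q) = (e : I) := by rw [← he]; exact LinearMap.congr_fun hg e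
    have h2 : g (r • q) ∈ N ⊓ E := ⟨by rw [map_smul]; exact N.smul_mem r hx, h1 ▸ e.2⟩
    rw [hbot, Submodule.mem_bot] at h2
    exact hr0 (hginj (h2.trans (map_zero g).symm))
  exact injective_of_retract hI E.subtype ((g ∘ₗ π).codRestrict E fun x => hrange ▸ LinearMap.mem_range_self g (π x))
    fun x => Subtype.ext (LinearMap.congr_fun hg x)

/-- Every submodule of an injective module has a hull inside it. -/
lemma exists_hull_submodule {I : Type u} [AddCommGroup I] [Module R I] (hI : Module.Injective R I) (M : Submodule R I) :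
    ∃ (E : Submodule R I) (h : M ≤ E), Module.Injective R E ∧ IsEssentialInj (Submodule.inclusion h) := by
  obtain ⟨E, hE⟩ : ∃ E : Submodule R I, Maximal (fun E => M ≤ E ∧ ∀ N : Submodule R I, N ≤ E → N ≠ ⊥ → N ⊓ M ≠ ⊥) E := by
    refine zorn_le₀ {E : Submodule R I | M ≤ E ∧ ∀ N : Submodule R I, N ≤ E → N ≠ ⊥ → N ⊓ M ≠ ⊥} fun c hc hchain => ?_
    rcases c.eq_empty_or_nonempty with rfl | hne
    · exact ⟨M, ⟨le_rfl, fun N hN hN0 => by rwa [inf_eq_left.2 hN]⟩, by simp⟩
    refine ⟨sSup c, ⟨(hc hne.some_mem).1.trans (le_sSup hne.some_mem), fun N hN hN0 hbot => ?_⟩, fun z hz => le_sSup hz⟩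
    obtain ⟨x, hx, hx0⟩ := Submodule.exists_mem_ne_zero_of_ne_bot hN0
    obtain ⟨z, hz, hxz⟩ := (Submodule.mem_sSup_of_directed hne hchain.directedOn).1 (hN hx)
    refine (hc hz).2 (N ⊓ z) inf_le_right (fun h0 => hx0 ((Submodule.mem_bot R).1 (h0 ▸ Submodule.mem_inf.2 ⟨hx, hxz⟩))) ?_
    exact le_antisymm ((inf_le_inf_right M inf_le_left).trans hbot.le) bot_le
  refine ⟨E, hE.1.1, injective_of_no_essential hI E fun E' hle hess => ?_, ?_⟩
  · refine le_antisymm (hE.2 ⟨hE.1.1.trans hle, fun N hN hN0 hbot => ?_⟩ hle) hle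
    refine hE.1.2 (N ⊓ E) inf_le_right (hess N hN hN0) ?_
    exact le_antisymm ((inf_le_inf_right M inf_le_left).trans hbot.le) bot_le
  · refine isEssentialInj_of_exists_smul (Submodule.inclusion_injective _) fun x hx => ?_
    have h := hE.1.2 (Submodule.span R {(x : I)}) ((Submodule.span_singleton_le_iff_mem _ _).2 x.2) (by simpa using hx)
    obtain ⟨y, hy, hy0⟩ := Submodule.exists_mem_ne_zero_of_ne_bot h
    obtain ⟨r, rfl⟩ := Submodule.mem_span_singleton.1 (Submodule.mem_inf.1 hy).1
    exact ⟨r, ⟨⟨_, (Submodule.mem_inf.1 hy).2⟩, Subtype.ext rfl⟩, fun h0 => hy0 (by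
      have := congrArg Subtype.val h0; simpa using this)⟩

lemma exists_embedding_injective (M : Type u) [AddCommGroup M] [Module R M] :
    ∃ (I : Type u) (_ : AddCommGroup I) (_ : Module R I) (i : M →ₗ[R] I), Function.Injective i ∧ Module.Injective R I := by
  let J := CategoryTheory.Injective.under (ModuleCat.of R M)
  refine ⟨J, inferInstance, inferInstance, (CategoryTheory.Injective.ι (ModuleCat.of R M)).hom,
    (ModuleCat.mono_iff_injective _).1 inferInstance, ?_⟩
  haveI : CategoryTheory.Injective (ModuleCat.of R ↑J) := inferInstanceAs (CategoryTheory.Injective J)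
  exact Module.injective_module_of_injective_object R J

theorem exists_injectiveHull (M : Type u) [AddCommGroup M] [Module R M] :
    ∃ (E : Type u) (_ : AddCommGroup E) (_ : Module R E) (f : M →ₗ[R] E), IsInjectiveHull f := by
  obtain ⟨I, _, _, i, hi, hI⟩ := exists_embedding_injective (R := R) M
  obtain ⟨E, hle, hEinj, hess⟩ := exists_hull_submodule hI (LinearMap.range i)
  exact ⟨E, inferInstance, inferInstance, Submodule.inclusion hle ∘ₗ (LinearEquiv.ofInjective i hi).toLinearMap,
    ⟨isEssentialInj_comp_equiv hess _, hEinj⟩⟩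

theorem hull_splits {M E I : Type u} [AddCommGroup M] [Module R M] [AddCommGroup E] [Module R E] [AddCommGroup I] [Module R I]
    {f : M →ₗ[R] E} (hf : IsInjectiveHull f) (i : M →ₗ[R] I) (hi : Function.Injective i) (hI : Module.Injective R I) :
    ∃ α : E →ₗ[R] I, Function.Injective α ∧ α ∘ₗ f = i ∧ ∃ I' : Submodule R I, IsCompl (LinearMap.range α) I' := by
  obtain ⟨α, hα⟩ := exists_extend hI f hf.injective i
  have hinj := injective_of_comp_essential hf.toIsEssentialInj α (by rw [hα]; exact hi)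
  exact ⟨α, hinj, hα, exists_isCompl_of_injective _ (injective_of_equiv hf.isInjective (LinearEquiv.ofInjective α hinj))⟩

theorem hull_unique {M E E' : Type u} [AddCommGroup M] [Module R M] [AddCommGroup E] [Module R E] [AddCommGroup E'] [Module R E']
    {f : M →ₗ[R] E} (hf : IsInjectiveHull f) {g : M →ₗ[R] E'} (hg : IsInjectiveHull g) :
    ∃ e : E ≃ₗ[R] E', e.toLinearMap ∘ₗ f = g := by
  obtain ⟨α, hinj, hα, -⟩ := hull_splits hf g hg.injective hg.isInjective
  have hess : IsEssentialInj α := by
    refine ⟨hinj, fun N hN hbot => hg.essential N hN (le_antisymm ?_ bot_le)⟩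
    rw [← hbot, ← hα, LinearMap.range_comp]
    exact inf_le_inf_left _ LinearMap.map_le_range
  exact ⟨LinearEquiv.ofBijective α ⟨hinj, surjective_of_injective_essential hf.isInjective hess⟩, hα⟩

/-- Two nonzero submodules of an indecomposable injective module meet. -/
lemma inf_ne_bot_of_indecomposable {E : Type u} [AddCommGroup E] [Module R E] (hE : IsIndecomposable R E)
    (hinj : Module.Injective R E) (N N' : Submodule R E) (hN : N ≠ ⊥) (hN' : N' ≠ ⊥) : N ⊓ N' ≠ ⊥ := by
  intro hbot
  obtain ⟨F, hle, hF, hess⟩ := exists_hull_submodule hinj N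
  obtain ⟨C, hC⟩ := exists_isCompl_of_injective F hF
  rcases hE.2 F C hC with h | h
  · exact hN (le_bot_iff.1 (h ▸ hle))
  · have hFtop : F = ⊤ := by simpa [h] using hC.sup_eq_top
    obtain ⟨x, hx, hx0⟩ := Submodule.exists_mem_ne_zero_of_ne_bot hN'
    obtain ⟨r, ⟨n, hn⟩, hr0⟩ := exists_smul_mem_of_essential hess
      (x := (⟨x, hFtop ▸ Submodule.mem_top⟩ : F)) (fun h0 => hx0 (congrArg Subtype.val h0))
    have h1 : (n : E) = r • x := congrArg Subtype.val hn
    have h2 : r • x ∈ N ⊓ N' := ⟨h1 ▸ n.2, N'.smul_mem r hx⟩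
    rw [hbot, Submodule.mem_bot] at h2
    exact hr0 (Subtype.ext h2)

/-- An injective module in which nonzero submodules meet is indecomposable. -/
lemma indecomposable_of_inf_ne_bot {E : Type u} [AddCommGroup E] [Module R E] [Nontrivial E]
    (h : ∀ N N' : Submodule R E, N ≠ ⊥ → N' ≠ ⊥ → N ⊓ N' ≠ ⊥) : IsIndecomposable R E :=
  ⟨inferInstance, fun N N' hc => by
    by_contra hne
    push_neg at hne
    exact h N N' hne.1 hne.2 hc.inf_eq_bot⟩

end Injective

section Prime

variable {R : Type u} [CommRing R] (p : Ideal R) [p.IsPrime] {E : Type u} [AddCommGroup E] [Module R E]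
  {f : (R ⧸ p) →ₗ[R] E}

lemma annihilator_smul_one (hf : Function.Injective f) (r : R) : r • f 1 = 0 ↔ r ∈ p := by
  rw [← map_smul, map_eq_zero_iff f hf, Algebra.smul_def, mul_one]
  exact Ideal.Quotient.eq_zero_iff_mem

/-- An essential extension of `R/p` is uniform. -/
lemma inf_ne_bot_of_essential_prime (hf : IsEssentialInj f) (N N' : Submodule R E) (hN : N ≠ ⊥) (hN' : N' ≠ ⊥) :
    N ⊓ N' ≠ ⊥ := by
  obtain ⟨x, hx, hx0⟩ := Submodule.exists_mem_ne_zero_of_ne_bot (hf.essential N hN)
  obtain ⟨y, hy, hy0⟩ := Submodule.exists_mem_ne_zero_of_ne_bot (hf.essential N' hN')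
  obtain ⟨hxN, a, rfl⟩ := Submodule.mem_inf.1 hx
  obtain ⟨hyN, b, rfl⟩ := Submodule.mem_inf.1 hy
  obtain ⟨a, rfl⟩ := Ideal.Quotient.mk_surjective a
  obtain ⟨b, rfl⟩ := Ideal.Quotient.mk_surjective b
  have key : ∀ c : R, f (Ideal.Quotient.mk p c) = c • f 1 := fun c => by
    rw [← map_smul]; congr 1; rw [Algebra.smul_def, mul_one]; rfl
  intro hbot
  have h1 : (b * a) • f 1 ∈ N ⊓ N' := ⟨by rw [mul_smul, ← key]; exact N.smul_mem b hxN,
    by rw [mul_comm, mul_smul, ← key]; exact N'.smul_mem a hyN⟩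
  rw [hbot, Submodule.mem_bot, annihilator_smul_one p hf.injective] at h1
  rw [key, Ne, annihilator_smul_one p hf.injective] at hx0 hy0
  exact (Ideal.IsPrime.mem_or_mem ‹_› h1).elim hy0 hx0

lemma indecomposable_hull_prime (hf : IsInjectiveHull f) : IsIndecomposable R E := by
  haveI : Nontrivial E := hf.injective.nontrivial
  exact indecomposable_of_inf_ne_bot (inf_ne_bot_of_essential_prime p hf.toIsEssentialInj)

/-- Elements outside `p` act injectively on an essential extension of `R/p`. -/
lemma smul_injective_of_notMem (hf : IsEssentialInj f) {s : R} (hs : s ∉ p) : Function.Injective (fun x : E => s • x) := by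
  refine injective_of_comp_essential hf (LinearMap.lsmul R E s) fun a b hab => ?_
  obtain ⟨a, rfl⟩ := Ideal.Quotient.mk_surjective a
  obtain ⟨b, rfl⟩ := Ideal.Quotient.mk_surjective b
  have h : f (s • Ideal.Quotient.mk p a) = f (s • Ideal.Quotient.mk p b) := by simpa using hab
  have h1 := hf.injective h
  rw [Algebra.smul_def, Algebra.smul_def, Ideal.Quotient.algebraMap_eq, ← map_mul, ← map_mul, Ideal.Quotient.eq, ← mul_sub] at h1
  exact Ideal.Quotient.eq.2 ((Ideal.IsPrime.mem_or_mem ‹_› h1).resolve_left hs)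

lemma smul_bijective_of_notMem (hf : IsInjectiveHull f) {s : R} (hs : s ∉ p) : Function.Bijective (fun x : E => s • x) := by
  refine ⟨smul_injective_of_notMem p hf.toIsEssentialInj hs, fun x => ?_⟩
  obtain ⟨g, hg⟩ := exists_extend hf.isInjective (LinearMap.lsmul R E s) (smul_injective_of_notMem p hf.toIsEssentialInj hs) LinearMap.id
  exact ⟨g x, (map_smul g s x).symm.trans (LinearMap.congr_fun hg x)⟩

lemma subsingleton_or_bijective (hf : IsInjectiveHull f) (s : R) :
    s ∈ p ∨ Function.Bijective (fun x : E => s • x) :=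
  (em (s ∈ p)).imp_right (smul_bijective_of_notMem p hf)

/-- The hull of `R/p` is also a hull of the residue field. -/
theorem exists_hull_residueField (hf : IsInjectiveHull f) : ∃ g : p.ResidueField →ₗ[R] E, IsInjectiveHull g := by
  let i : (R ⧸ p) →ₗ[R] p.ResidueField := (IsScalarTower.toAlgHom R (R ⧸ p) p.ResidueField).toLinearMap
  have hi : Function.Injective i := IsFractionRing.injective (R ⧸ p) p.ResidueField
  obtain ⟨g, hg⟩ := exists_extend hf.isInjective i hi f
  have hess : IsEssentialInj i := isEssentialInj_of_exists_smul hi fun x hx => by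
    obtain ⟨⟨a, ⟨s, hs⟩⟩, h⟩ := IsLocalization.surj (nonZeroDivisors (R ⧸ p)) x
    obtain ⟨s, rfl⟩ := Ideal.Quotient.mk_surjective s
    have hs0 : algebraMap (R ⧸ p) p.ResidueField (Ideal.Quotient.mk p s) ≠ 0 :=
      (map_ne_zero_iff _ hi).2 (nonZeroDivisors.ne_zero hs)
    have e : s • x = x * algebraMap (R ⧸ p) p.ResidueField (Ideal.Quotient.mk p s) := by
      rw [Algebra.smul_def, mul_comm, IsScalarTower.algebraMap_apply R (R ⧸ p) p.ResidueField]; rfl
    exact ⟨s, ⟨a, h.symm.trans e.symm⟩, by rw [e]; exact mul_ne_zero hx hs0⟩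
  refine ⟨g, ⟨⟨injective_of_comp_essential hess g (by rw [hg]; exact hf.injective), fun N hN hbot => ?_⟩, hf.isInjective⟩⟩
  refine hf.essential N hN (le_antisymm ((inf_le_inf_left N ?_).trans hbot.le) bot_le)
  rw [← hg]; exact LinearMap.range_comp_le_range i g

end Prime

end InjHullLib
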