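import Groth.Agent.InjHullLib.Matlis

/-!
# Matlis duality over local rings
-/

universe u v w

namespace InjHullLib

open InjHull IsLocalRing

variable {R : Type u} [CommRing R]

section Torsion

variable {m : Ideal R}

lemma isPowerTorsion_of_pow_smul_eq_zero {G : Type v} [AddCommGroup G] [Module R G] {n : ℕ} (h : ∀ a ∈ m ^ n, ∀ x : G, a • x = 0) :
    LocCoh.IsPowerTorsion m G := fun x => ⟨n, fun a ha => h a ha x⟩

lemma isPowerTorsion_quotient {G : Type v} [AddCommGroup G] [Module R G] (hG : LocCoh.IsPowerTorsion m G) (N : Submodule R G) :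
    LocCoh.IsPowerTorsion m (G ⧸ N) := fun q => by
  obtain ⟨q, rfl⟩ := Submodule.mkQ_surjective N q
  obtain ⟨n, hn⟩ := hG q
  exact ⟨n, fun a ha => by rw [← map_smul, hn a ha, map_zero]⟩

lemma isPowerTorsion_pi {G : Type v} [AddCommGroup G] [Module R G] (hG : LocCoh.IsPowerTorsion m G) (n : ℕ) :
    LocCoh.IsPowerTorsion m (Fin n → G) := fun x => by
  choose k hk using fun i => hG (x i)
  exact ⟨Finset.univ.sup k, fun a ha => funext fun i => hk i a (Ideal.pow_le_pow_right (Finset.le_sup (Finset.mem_univ i)) ha)⟩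

lemma mem_torsionBy_iff {G : Type v} [AddCommGroup G] [Module R G] {x : G} :
    x ∈ LocCoh.torsionBy m G ↔ ∀ a ∈ m, a • x = 0 := by
  simp only [LocCoh.torsionBy, Submodule.mem_torsionBySet_iff, Subtype.forall, SetLike.mem_coe]

/-- The socle of a power-torsion module is essential. -/
lemma socle_essential {G : Type v} [AddCommGroup G] [Module R G] (hG : LocCoh.IsPowerTorsion m G) :
    IsEssentialInj (LocCoh.torsionBy m G).subtype := by
  refine isEssentialInj_of_exists_smul (Submodule.injective_subtype _) fun x hx => ?_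
  obtain ⟨n, hn⟩ := hG x
  clear hG
  induction n generalizing x with
  | zero => exact absurd (by simpa using hn 1 (by simp)) hx
  | succ n ih =>
    by_cases h : ∃ a ∈ m ^ n, a • x ≠ 0
    · obtain ⟨a, ha, hax⟩ := h
      refine ⟨a, ⟨⟨a • x, mem_torsionBy_iff.2 fun b hb => ?_⟩, rfl⟩, hax⟩
      rw [smul_smul]
      exact hn _ (by rw [pow_succ']; exact Ideal.mul_mem_mul hb ha)
    · push_neg at h
      exact ih x hx h

end Torsion

variable [IsLocalRing R] {E : Type u} [AddCommGroup E] [Module R E] {f : ResidueField R →ₗ[R] E}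

lemma exists_ne_zero_local (hinj : Function.Injective f) (hE : Module.Injective R E) {G : Type u} [AddCommGroup G]
    [Module R G] {x : G} (hx : x ≠ 0) : ∃ φ : G →ₗ[R] E, φ x ≠ 0 := by
  refine exists_ne_zero (m := maximalIdeal R) (f := f) hinj hE hx fun r hr => ?_
  by_contra h
  exact hx ((IsUnit.smul_eq_zero (by simpa using h)).1 hr)

lemma applyₗ_injective_local (hf : IsInjectiveHull f) {G : Type u} [AddCommGroup G] [Module R G] :
    Function.Injective (LinearMap.applyₗ : G →ₗ[R] (G →ₗ[R] E) →ₗ[R] E) := by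
  refine (injective_iff_map_eq_zero _).2 fun x hx => by_contra fun hne => ?_
  obtain ⟨φ, hφ⟩ := exists_ne_zero_local hf.injective hf.isInjective hne
  exact hφ (LinearMap.congr_fun hx φ)

lemma annihilator_dual (hf : IsInjectiveHull f) {G : Type u} [AddCommGroup G] [Module R G] :
    Module.annihilator R G = Module.annihilator R (G →ₗ[R] E) := by
  refine le_antisymm (fun r hr => Module.mem_annihilator.2 fun g => LinearMap.ext fun x => ?_)
    (fun r hr => Module.mem_annihilator.2 fun x => applyₗ_injective_local hf ?_)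
  · rw [LinearMap.smul_apply, ← map_smul, Module.mem_annihilator.1 hr x, map_zero, LinearMap.zero_apply]
  · refine LinearMap.ext fun g => ?_
    show g (r • x) = g 0
    rw [map_smul, ← LinearMap.smul_apply, Module.mem_annihilator.1 hr g, LinearMap.zero_apply, map_zero]

lemma socle_eq_range (hf : IsInjectiveHull f) : LocCoh.torsionBy (maximalIdeal R) E = LinearMap.range f := by
  refine le_antisymm (fun x hx => mem_range_of_smul_eq_zero (m := maximalIdeal R) hf.toIsEssentialInj (mem_torsionBy_iff.1 hx)) ?_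
  rintro _ ⟨a, rfl⟩
  exact mem_torsionBy_iff.2 fun s hs => smul_apply_eq_zero_of_mem (m := maximalIdeal R) hs a

/-- Modules of finite length are killed by a power of the maximal ideal. -/
lemma exists_pow_smul_eq_zero {M : Type v} [AddCommGroup M] [Module R M] (hM : IsFiniteLength R M) :
    ∃ n : ℕ, ∀ a ∈ maximalIdeal R ^ n, ∀ x : M, a • x = 0 := by
  induction hM with
  | of_subsingleton => exact ⟨0, fun a _ x => Subsingleton.elim _ _⟩
  | of_simple_quotient hN ih =>
    rename_i M _ _ N hsimple
    obtain ⟨n, hn⟩ := ih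
    obtain ⟨I, hI, ⟨e⟩⟩ := isSimpleModule_iff_quot_maximal.1 hsimple
    obtain rfl : I = maximalIdeal R := IsLocalRing.eq_maximalIdeal hI
    have hb : ∀ b ∈ maximalIdeal R, ∀ x : M, b • x ∈ N := fun b hb x => by
      rw [← Submodule.Quotient.mk_eq_zero N, Submodule.Quotient.mk_smul, ← map_eq_zero_iff e e.injective, map_smul]
      obtain ⟨c, hc⟩ := Submodule.Quotient.mk_surjective _ (e (Submodule.Quotient.mk x))
      rw [← hc, ← Submodule.Quotient.mk_smul, Submodule.Quotient.mk_eq_zero]
      exact Ideal.mul_mem_right _ _ hb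
    refine ⟨n + 1, fun a ha x => ?_⟩
    rw [pow_succ] at ha
    induction ha using Submodule.mul_induction_on' with
    | mem_mul_mem c hc d hd =>
      rw [mul_smul]
      exact congrArg Subtype.val (hn c hc ⟨d • x, hb d hd x⟩)
    | add c _ d _ hc hd => rw [add_smul, hc, hd, add_zero]

lemma isFiniteLength_of_finite_artinian [IsArtinianRing R] (M : Type v) [AddCommGroup M] [Module R M] [Module.Finite R M] :
    IsFiniteLength R M :=
  isFiniteLength_iff_isNoetherian_isArtinian.2 ⟨inferInstance, inferInstance⟩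

/-- A power-torsion module with finite socle embeds in a power of the hull. -/
theorem exists_embedding_pi (hf : IsInjectiveHull f) {M : Type u} [AddCommGroup M] [Module R M]
    (hM : LocCoh.IsPowerTorsion (maximalIdeal R) M) (n : ℕ)
    [Module.Finite (R ⧸ maximalIdeal R) (LocCoh.torsionBy (maximalIdeal R) M)]
    (hn : Module.finrank (R ⧸ maximalIdeal R) (LocCoh.torsionBy (maximalIdeal R) M) = n) :
    ∃ g : M →ₗ[R] (Fin n → E), Function.Injective g := by
  letI := Ideal.Quotient.field (maximalIdeal R)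
  let b := Module.finBasisOfFinrankEq (R ⧸ maximalIdeal R) (LocCoh.torsionBy (maximalIdeal R) M) hn
  let g₀ : LocCoh.torsionBy (maximalIdeal R) M →ₗ[R] (Fin n → E) :=
    LinearMap.pi fun i => f ∘ₗ ((b.coord i).restrictScalars R)
  have hg₀ : Function.Injective g₀ := (injective_iff_map_eq_zero _).2 fun x hx => b.ext_elem fun i => by
    have h1 : f (b.coord i x) = f 0 := (congrFun hx i).trans (map_zero f).symm
    rw [map_zero, Finsupp.zero_apply]
    exact hf.injective h1
  haveI := hf.isInjective
  obtain ⟨g, hg⟩ := exists_extend (inferInstance : Module.Injective R (Fin n → E))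
    (LocCoh.torsionBy (maximalIdeal R) M).subtype (Submodule.injective_subtype _) g₀
  exact ⟨g, injective_of_comp_essential (socle_essential hM) g (by rw [hg]; exact hg₀)⟩

variable [IsNoetherianRing R]

theorem isArtinian_hull_local (hf : IsInjectiveHull f) : IsArtinian R E :=
  isArtinian_hull (m := maximalIdeal R) hf

lemma isPowerTorsion_hull_local (hf : IsInjectiveHull f) : LocCoh.IsPowerTorsion (maximalIdeal R) E :=
  isPowerTorsion_hull (m := maximalIdeal R) hf.toIsEssentialInj

theorem isArtinian_iff (M : Type u) [AddCommGroup M] [Module R M] :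
    IsArtinian R M ↔ (LocCoh.IsPowerTorsion (maximalIdeal R) M ∧
      Module.Finite (R ⧸ maximalIdeal R) (LocCoh.torsionBy (maximalIdeal R) M)) := by
  letI := Ideal.Quotient.field (maximalIdeal R)
  constructor
  · intro h
    refine ⟨fun x => ?_, ?_⟩
    · let D : ℕ →o (Submodule R M)ᵒᵈ := ⟨fun k => OrderDual.toDual (Submodule.map (LinearMap.toSpanSingleton R M x)
        (maximalIdeal R ^ k : Submodule R R)), fun a b hab => Submodule.map_mono (Ideal.pow_le_pow_right hab)⟩
      obtain ⟨n, hn⟩ := IsArtinian.monotone_stabilizes D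
      refine ⟨n, fun a ha => ?_⟩
      have hle : Submodule.map (LinearMap.toSpanSingleton R M x) (maximalIdeal R ^ n : Submodule R R) ≤
          maximalIdeal R • Submodule.map (LinearMap.toSpanSingleton R M x) (maximalIdeal R ^ n : Submodule R R) := by
        conv_lhs => rw [show Submodule.map (LinearMap.toSpanSingleton R M x) (maximalIdeal R ^ n : Submodule R R) =
          Submodule.map (LinearMap.toSpanSingleton R M x) (maximalIdeal R ^ (n + 1) : Submodule R R) from hn (n + 1) (Nat.le_succ n)]
        rw [← Submodule.map_smul'', pow_succ']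
        rfl
      have hbot := Submodule.eq_bot_of_le_smul_of_le_jacobson_bot _ _ ((IsNoetherian.noetherian (maximalIdeal R ^ n : Submodule R R)).map _) hle
        (maximalIdeal_le_jacobson ⊥)
      have h1 : a • x ∈ Submodule.map (LinearMap.toSpanSingleton R M x) (maximalIdeal R ^ n : Submodule R R) :=
        ⟨a, ha, LinearMap.toSpanSingleton_apply R M x a⟩
      rwa [hbot, Submodule.mem_bot] at h1
    · haveI : IsArtinian (R ⧸ maximalIdeal R) (LocCoh.torsionBy (maximalIdeal R) M) := isArtinian_of_tower R inferInstance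
      haveI : IsNoetherian (R ⧸ maximalIdeal R) (LocCoh.torsionBy (maximalIdeal R) M) :=
        IsSemiprimaryRing.isNoetherian_iff_isArtinian.2 inferInstance
      infer_instance
  · rintro ⟨hM, hfin⟩
    obtain ⟨E, _, _, f, hf⟩ := exists_injectiveHull (R := R) (ResidueField R)
    obtain ⟨g, hg⟩ := exists_embedding_pi hf hM _ rfl
    haveI := isArtinian_hull_local hf
    exact isArtinian_of_injective g hg

theorem isArtinian_dual (hf : IsInjectiveHull f) (M : Type u) [AddCommGroup M] [Module R M] [Module.Finite R M] :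
    IsArtinian R (M →ₗ[R] E) := by
  obtain ⟨n, π, hπ⟩ := Module.Finite.exists_fin' R M
  haveI := isArtinian_hull_local hf
  exact isArtinian_of_injective (LinearMap.pi (fun i => LinearMap.applyₗ (π (Pi.single i 1)))) fun a b hab =>
    (LinearMap.cancel_right hπ).1 (LinearMap.pi_ext' fun i => LinearMap.ext_ring (congrFun hab i))

section Complete

variable [IsAdicComplete (maximalIdeal R) R]

lemma exists_smul_eq_end (hf : IsInjectiveHull f) (φ : Module.End R E) : ∃ r : R, ∀ x, φ x = r • x := by
  obtain ⟨ξ, hξ⟩ := (completionHom_bijective (m := maximalIdeal R) hf).2 φ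
  obtain ⟨r, hr⟩ := (AdicCompletion.of_bijective (maximalIdeal R) R).2 ξ
  subst hr
  refine ⟨r, fun x => ?_⟩
  obtain ⟨a, ha⟩ := isPowerTorsion_hull_local hf x
  rw [← hξ]
  exact completionAct_eq (m := maximalIdeal R) _ _ x ha (r := r) (AdicCompletion.evalₐ_of _ a r).symm

/-- A functional on the dual of `R^n` comes from a vector. -/
lemma applyₗ_surjective_pi (hf : IsInjectiveHull f) (n : ℕ) :
    Function.Surjective (LinearMap.applyₗ : (Fin n → R) →ₗ[R] ((Fin n → R) →ₗ[R] E) →ₗ[R] E) := by
  intro Φ
  choose r hr using fun i => exists_smul_eq_end hf (Φ ∘ₗ LinearMap.lcomp R E (LinearMap.proj i) ∘ₗ (LinearMap.ringLmapEquivSelf R R E).symm.toLinearMap)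
  refine ⟨r, LinearMap.ext fun ψ => ?_⟩
  have hψ : ψ = ∑ i, ((LinearMap.ringLmapEquivSelf R R E).symm (ψ (Pi.single i 1))) ∘ₗ LinearMap.proj i :=
    LinearMap.pi_ext' fun i => LinearMap.ext_ring (by simp [Pi.single_apply, LinearMap.sum_apply])
  conv_rhs => rw [hψ, map_sum]
  show ψ r = _
  conv_lhs => rw [pi_eq_sum_univ' r, map_sum]
  refine Finset.sum_congr rfl fun i _ => ?_
  rw [map_smul, ← hr i]
  rfl

theorem applyₗ_bijective_of_finite (hf : IsInjectiveHull f) (M : Type u) [AddCommGroup M] [Module R M] [Module.Finite R M] :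
    Function.Bijective (LinearMap.applyₗ : M →ₗ[R] (M →ₗ[R] E) →ₗ[R] E) := by
  obtain ⟨n, π, hπ⟩ := Module.Finite.exists_fin' R M
  refine ⟨applyₗ_injective_local hf, fun Φ => ?_⟩
  obtain ⟨Ψ, hΨ⟩ := exists_extend hf.isInjective (LinearMap.lcomp R E π) (fun a b h => (LinearMap.cancel_right hπ).1 h) Φ
  obtain ⟨r, hr⟩ := applyₗ_surjective_pi hf n Ψ
  refine ⟨π r, LinearMap.ext fun φ => ?_⟩
  rw [← hΨ, LinearMap.comp_apply, ← hr]
  rfl

theorem finite_dual_and_applyₗ_bijective (hf : IsInjectiveHull f) (M : Type u) [AddCommGroup M] [Module R M] [IsArtinian R M] :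
    Module.Finite R (M →ₗ[R] E) ∧ Function.Bijective (LinearMap.applyₗ : M →ₗ[R] (M →ₗ[R] E) →ₗ[R] E) := by
  letI := Ideal.Quotient.field (maximalIdeal R)
  obtain ⟨hM, hfin⟩ := (isArtinian_iff M).1 ‹_›
  obtain ⟨n, hn⟩ : ∃ n, Module.finrank (R ⧸ maximalIdeal R) (LocCoh.torsionBy (maximalIdeal R) M) = n := ⟨_, rfl⟩
  obtain ⟨g, hg⟩ := exists_embedding_pi hf hM n hn
  -- every functional on `E^n` is a linear combination of projections
  let P : (Fin n → R) →ₗ[R] (Fin n → E) →ₗ[R] E :=
    { toFun := fun r => ∑ i, r i • LinearMap.proj i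
      map_add' := fun a b => by simp [add_smul, Finset.sum_add_distrib]
      map_smul' := fun c a => by simp [mul_smul, Finset.smul_sum] }
  have hP : Function.Surjective P := fun φ => by
    choose r hr using fun i => exists_smul_eq_end hf (φ ∘ₗ LinearMap.single R (fun _ => E) i)
    refine ⟨r, LinearMap.pi_ext' fun i => LinearMap.ext fun x => ?_⟩
    rw [hr i x]
    simp [P, LinearMap.sum_apply, Pi.single_apply]
  have hsurj : Function.Surjective (LinearMap.lcomp R E g ∘ₗ P) := (lcomp_surjective hf.isInjective g hg).comp hP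
  refine ⟨Module.Finite.of_surjective _ hsurj, applyₗ_injective_local hf, fun Φ => ?_⟩
  let e : Fin n → E := fun i => Φ (LinearMap.proj i ∘ₗ g)
  have he : ∀ φ : (Fin n → E) →ₗ[R] E, Φ (φ ∘ₗ g) = φ e := fun φ => by
    obtain ⟨r, rfl⟩ := hP φ
    show Φ ((∑ i, r i • LinearMap.proj i) ∘ₗ g) = (∑ i, r i • (LinearMap.proj i : (Fin n → E) →ₗ[R] E)) e
    rw [show ((∑ i, r i • LinearMap.proj i) : (Fin n → E) →ₗ[R] E) ∘ₗ g = LinearMap.lcomp R E g (∑ i, r i • LinearMap.proj i) from rfl,
      map_sum, map_sum, LinearMap.sum_apply]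
    exact Finset.sum_congr rfl fun i _ => by rw [map_smul, map_smul]; rfl
  have hmem : e ∈ LinearMap.range g := by
    by_contra h
    obtain ⟨φ, hφ⟩ := exists_ne_zero_local hf.injective hf.isInjective (x := (LinearMap.range g).mkQ e)
      (fun h0 => h ((Submodule.Quotient.mk_eq_zero _).1 h0))
    refine hφ ?_
    rw [← LinearMap.comp_apply, ← he, show (φ ∘ₗ (LinearMap.range g).mkQ) ∘ₗ g = 0 from LinearMap.ext fun y => by
      show φ ((LinearMap.range g).mkQ (g y)) = 0
      rw [Submodule.mkQ_apply, (Submodule.Quotient.mk_eq_zero _).2 (LinearMap.mem_range_self g y), map_zero], map_zero]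
  obtain ⟨x, hx⟩ := hmem
  refine ⟨x, LinearMap.ext fun ψ => ?_⟩
  obtain ⟨φ, rfl⟩ := lcomp_surjective hf.isInjective g hg ψ
  show φ (g x) = Φ (φ ∘ₗ g)
  rw [he, hx]

end Complete

end InjHullLib
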