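import Groth.Agent.InjHullLib.Basic

/-!
# Injective modules over Noetherian rings
-/

universe u v w

namespace InjHullLib

open InjHull DirectSum

variable {R : Type u} [CommRing R]

/-- Bass: direct sums of injectives are injective. -/
theorem injective_directSum [IsNoetherianRing R] {ι : Type u} (E : ι → Type u) [∀ i, AddCommGroup (E i)]
    [∀ i, Module R (E i)] (hE : ∀ i, Module.Injective R (E i)) : Module.Injective R (DirectSum ι E) := by
  classical
  refine Module.Baer.injective fun a g => ?_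
  obtain ⟨s, hs⟩ := (IsNoetherian.noetherian a : a.FG)
  have hsa : ∀ x ∈ s, x ∈ a := fun x hx => hs ▸ Ideal.subset_span hx
  let supp : Finset ι := s.attach.biUnion fun x => (g ⟨x.1, hsa x.1 x.2⟩).support
  have hsupp : ∀ (x : R) (hx : x ∈ a) (i : ι), i ∉ supp → g ⟨x, hx⟩ i = 0 := by
    intro x hx i hi
    have hx' : x ∈ Submodule.span R (s : Set R) := hs ▸ hx
    suffices ∀ hxa : x ∈ a, g ⟨x, hxa⟩ i = 0 from this hx
    induction hx' using Submodule.span_induction with
    | zero => intro hxa; rw [show (⟨0, hxa⟩ : a) = 0 from rfl, map_zero]; rfl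
    | mem y hy =>
      intro hya
      by_contra hne
      exact hi (Finset.mem_biUnion.2 ⟨⟨y, hy⟩, Finset.mem_attach _ _, DFinsupp.mem_support_iff.2 hne⟩)
    | add y z hy hz hy' hz' =>
      intro hxa
      have ey : y ∈ a := hs ▸ hy
      have ez : z ∈ a := hs ▸ hz
      rw [show (⟨y + z, hxa⟩ : a) = ⟨y, ey⟩ + ⟨z, ez⟩ from rfl, map_add, DirectSum.add_apply, hy' ey, hz' ez, add_zero]
    | smul r y hy hy' =>
      intro hxa
      have ey : y ∈ a := hs ▸ hy
      rw [show (⟨r • y, hxa⟩ : a) = r • ⟨y, ey⟩ from rfl, map_smul, DFinsupp.smul_apply, hy' ey, smul_zero]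
  have hb : ∀ i, ∃ h : R →ₗ[R] E i, ∀ (x : R) (hx : x ∈ a), h x = g ⟨x, hx⟩ i :=
    fun i => (Module.Baer.of_injective (hE i)) a (DirectSum.component R ι E i ∘ₗ g)
  choose h hh using hb
  refine ⟨∑ i ∈ supp, DirectSum.lof R ι E i ∘ₗ h i, fun x hx => DFinsupp.ext fun j => ?_⟩
  rw [LinearMap.sum_apply, DFinsupp.finsetSum_apply]
  by_cases hj : j ∈ supp
  · rw [Finset.sum_eq_single j (fun i _ hij => by
        rw [LinearMap.comp_apply, DirectSum.lof_eq_of, DirectSum.of_eq_of_ne _ _ _ (Ne.symm hij)]) (fun h => absurd hj h),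
      LinearMap.comp_apply, DirectSum.lof_eq_of, DirectSum.of_eq_same, hh]
  · rw [hsupp x hx j hj]
    refine Finset.sum_eq_zero fun i hi => ?_
    rw [LinearMap.comp_apply, DirectSum.lof_eq_of, DirectSum.of_eq_of_ne _ _ _ (fun h : j = i => hj (h ▸ hi))]

/-- The torsion part for powers of an ideal. -/
def torsionPart (J : Ideal R) (M : Type v) [AddCommGroup M] [Module R M] : Submodule R M :=
  ⨆ n : ℕ, Submodule.torsionBySet R M ((J ^ n : Ideal R) : Set R)

lemma mem_torsionPart {J : Ideal R} {M : Type v} [AddCommGroup M] [Module R M] {x : M} :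
    x ∈ torsionPart J M ↔ ∃ n : ℕ, ∀ a ∈ J ^ n, a • x = 0 := by
  have hmono : Monotone (fun n : ℕ => Submodule.torsionBySet R M ((J ^ n : Ideal R) : Set R)) :=
    fun n m hnm y hy => (Submodule.mem_torsionBySet_iff _ _).2 fun a =>
      (Submodule.mem_torsionBySet_iff _ _).1 hy ⟨a, Ideal.pow_le_pow_right hnm a.2⟩
  rw [torsionPart, Submodule.mem_iSup_of_directed _ hmono.directed_le]
  simp only [Submodule.mem_torsionBySet_iff, Subtype.forall, SetLike.mem_coe]

lemma torsionPart_eq_top {J : Ideal R} {M : Type v} [AddCommGroup M] [Module R M]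
    (hM : LocCoh.IsPowerTorsion J M) : torsionPart J M = ⊤ :=
  Submodule.eq_top_iff'.2 fun x => mem_torsionPart.2 (hM x)

/-- Baer's criterion for power-torsion modules: it suffices to test on `R/J^n`-type maps. -/
theorem injective_of_powerTorsion_extend [IsNoetherianRing R] {J : Ideal R} {H : Type u} [AddCommGroup H] [Module R H]
    (hH : LocCoh.IsPowerTorsion J H)
    (hext : ∀ (a : Ideal R) (g : a →ₗ[R] H) (k : ℕ), (∀ x : a, (x : R) ∈ J ^ k → g x = 0) →
      ∃ h : R →ₗ[R] H, ∀ x : a, h x = g x) : Module.Injective R H := by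
  refine Module.Baer.injective fun a g => ?_
  -- a power of `J` kills the image
  obtain ⟨n, hn⟩ : ∃ n : ℕ, ∀ r ∈ J ^ n, ∀ x : a, r • g x = 0 := by
    classical
    obtain ⟨s, hs⟩ := (IsNoetherian.noetherian (⊤ : Submodule R a) : (⊤ : Submodule R a).FG)
    choose n hn using fun x : a => hH (g x)
    refine ⟨s.sup n, fun r hr x => ?_⟩
    have hx : x ∈ Submodule.span R (s : Set a) := hs ▸ trivial
    induction hx using Submodule.span_induction with
    | zero => simp
    | add y z _ _ hy hz => rw [map_add, smul_add, hy, hz, add_zero]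
    | smul c y _ hy => rw [map_smul, smul_comm, hy, smul_zero]
    | mem y hy => exact hn y r (Ideal.pow_le_pow_right (Finset.le_sup hy) hr)
  -- Artin–Rees
  obtain ⟨k, hk⟩ := J.exists_pow_inf_eq_pow_smul (a : Submodule R R)
  have hkill : ∀ x : a, (x : R) ∈ J ^ (k + n) → g x = 0 := by
    intro x hx
    have h1 : (x : R) ∈ J ^ (k + n) • (⊤ : Submodule R R) ⊓ a := ⟨by simpa using hx, x.2⟩
    rw [hk (k + n) (Nat.le_add_right k n), Nat.add_sub_cancel_left] at h1
    have h2 : (x : R) ∈ J ^ n • (a : Submodule R R) := Submodule.smul_mono le_rfl inf_le_right h1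
    suffices ∀ y ∈ J ^ n • (a : Submodule R R), ∀ hy : y ∈ a, g ⟨y, hy⟩ = 0 from this _ h2 x.2
    intro y hy
    induction hy using Submodule.smul_induction_on' with
    | smul r hr z hz =>
      intro hy
      rw [show (⟨r • z, hy⟩ : a) = r • ⟨z, hz⟩ from rfl, map_smul]
      exact hn r hr _
    | add y hy z hz hy' hz' =>
      intro hyz
      have ey : y ∈ a := Submodule.smul_le_right hy
      have ez : z ∈ a := Submodule.smul_le_right hz
      rw [show (⟨y + z, hyz⟩ : a) = ⟨y, ey⟩ + ⟨z, ez⟩ from rfl, map_add, hy' ey, hz' ez, add_zero]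
  obtain ⟨h, hh⟩ := hext a g (k + n) hkill
  exact ⟨h, fun x hx => hh ⟨x, hx⟩⟩

/-- The torsion part of an injective module is injective. -/
theorem injective_torsionPart [IsNoetherianRing R] {I : Type u} [AddCommGroup I] [Module R I]
    (hI : Module.Injective R I) (J : Ideal R) : Module.Injective R (torsionPart J I) := by
  refine injective_of_powerTorsion_extend (J := J) (fun x => ?_) fun a g k hg => ?_
  · obtain ⟨n, hn⟩ := mem_torsionPart.1 x.2
    exact ⟨n, fun r hr => Subtype.ext (hn r hr)⟩
  -- extend `g` to `a + J^k` by zero on `J^k`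
  let π := (J ^ k : Submodule R R).mkQ
  let φ : a →ₗ[R] R ⧸ (J ^ k : Submodule R R) := π ∘ₗ Submodule.subtype a
  have hker : LinearMap.ker φ ≤ LinearMap.ker g := fun x hx => hg x ((Submodule.Quotient.mk_eq_zero _).1 hx)
  let gbar : LinearMap.range φ →ₗ[R] I :=
    (Submodule.subtype _) ∘ₗ (LinearMap.ker φ).liftQ g hker ∘ₗ φ.quotKerEquivRange.symm.toLinearMap
  obtain ⟨h, hh⟩ := exists_extend hI (LinearMap.range φ).subtype (Submodule.injective_subtype _) gbar
  refine ⟨(h ∘ₗ π).codRestrict _ fun r => mem_torsionPart.2 ⟨k, fun c hc => ?_⟩, fun x => Subtype.ext ?_⟩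
  · rw [← map_smul, LinearMap.comp_apply, show π (c • r) = 0 from (Submodule.Quotient.mk_eq_zero _).2
      (Ideal.mul_mem_right r _ hc), map_zero]
  · show h (φ x) = _
    have hhx := LinearMap.congr_fun hh ⟨φ x, LinearMap.mem_range_self φ x⟩
    refine hhx.trans ?_
    simp [gbar]

/-- An element-wise form of associated primes: some multiple has prime annihilator. -/
lemma exists_smul_prime [IsNoetherianRing R] {E : Type v} [AddCommGroup E] [Module R E] {x : E} (hx : x ≠ 0) :
    ∃ (c : R) (p : Ideal R), p.IsPrime ∧ c • x ≠ 0 ∧ ∀ r : R, r • (c • x) = 0 ↔ r ∈ p := by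
  obtain ⟨q, ⟨c, hc, rfl⟩, hmax⟩ := set_has_maximal_iff_noetherian.2 ‹IsNoetherianRing R›
    {q : Ideal R | ∃ c : R, c • x ≠ 0 ∧ q = LinearMap.ker (LinearMap.toSpanSingleton R E (c • x))}
    ⟨_, 1, by simpa using hx, rfl⟩
  have hiff : ∀ r : R, r • (c • x) = 0 ↔ r ∈ LinearMap.ker (LinearMap.toSpanSingleton R E (c • x)) :=
    fun r => by rw [LinearMap.mem_ker, LinearMap.toSpanSingleton_apply]
  refine ⟨c, LinearMap.ker (LinearMap.toSpanSingleton R E (c • x)), Ideal.isPrime_iff.2 ⟨fun h => hc ?_, fun {a b} hab => ?_⟩, hc, hiff⟩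
  · simpa using (hiff 1).2 (h ▸ Submodule.mem_top)
  · by_contra! hne
    rw [← hiff] at hab
    have hne' : (b * c) • x ≠ 0 := by rw [mul_smul]; exact fun h => hne.2 ((hiff b).1 h)
    refine hmax _ ⟨b * c, hne', rfl⟩ (lt_of_le_of_ne (fun r hr => ?_) fun h => hne.1 ?_)
    · rw [LinearMap.mem_ker, LinearMap.toSpanSingleton_apply] at hr ⊢
      rw [mul_smul, smul_comm, hr, smul_zero]
    · rw [h, LinearMap.mem_ker, LinearMap.toSpanSingleton_apply, mul_smul, ← mul_smul]
      exact hab

/-- The embedding of `R/p` given by an element with annihilator `p`. -/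
lemma exists_prime_embedding [IsNoetherianRing R] {E : Type v} [AddCommGroup E] [Module R E] {x : E} (hx : x ≠ 0) :
    ∃ (p : Ideal R) (_ : p.IsPrime) (f : (R ⧸ p) →ₗ[R] E) (c : R), Function.Injective f ∧ f 1 = c • x := by
  obtain ⟨c, p, hp, -, hiff⟩ := exists_smul_prime (R := R) hx
  refine ⟨p, hp, Submodule.liftQ p (LinearMap.toSpanSingleton R E (c • x)) (fun r hr => (hiff r).2 hr), c, ?_, ?_⟩
  · rw [← LinearMap.ker_eq_bot, Submodule.ker_liftQ_eq_bot']
    exact SetLike.ext fun r => by rw [LinearMap.mem_ker, LinearMap.toSpanSingleton_apply, hiff]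
  · exact (Submodule.liftQ_apply p _ (1 : R)).trans (one_smul R (c • x))

/-- An indecomposable injective is the hull of some `R/p`. -/
theorem exists_hull_prime_of_indecomposable [IsNoetherianRing R] {E : Type u} [AddCommGroup E] [Module R E]
    (hE : IsIndecomposable R E) (hinj : Module.Injective R E) :
    ∃ (p : Ideal R) (_ : p.IsPrime) (f : (R ⧸ p) →ₗ[R] E), IsInjectiveHull f := by
  haveI := hE.1
  obtain ⟨x, hx⟩ := exists_ne (0 : E)
  obtain ⟨p, hp, f, c, hf, -⟩ := exists_prime_embedding (R := R) hx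
  refine ⟨p, hp, f, ⟨⟨hf, fun N hN => inf_ne_bot_of_indecomposable hE hinj N _ hN ?_⟩, hinj⟩⟩
  intro h
  have h1 : f 1 = 0 := (Submodule.mem_bot R).1 (h ▸ LinearMap.mem_range_self f 1)
  exact one_ne_zero (hf (h1.trans (map_zero f).symm))

/-- A nonzero injective module contains an indecomposable injective. -/
lemma exists_indecomposable_le [IsNoetherianRing R] {I : Type u} [AddCommGroup I] [Module R I] (hI : Module.Injective R I)
    (C : Submodule R I) (hC : C ≠ ⊥) (hCinj : Module.Injective R C) :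
    ∃ E : Submodule R I, E ≤ C ∧ E ≠ ⊥ ∧ IsIndecomposable R E ∧ Module.Injective R E := by
  haveI : Nontrivial C := Submodule.nontrivial_iff_ne_bot.2 hC
  obtain ⟨x, hx⟩ := exists_ne (0 : C)
  obtain ⟨p, hp, f, c, hf, -⟩ := exists_prime_embedding (R := R) hx
  obtain ⟨F, hle, hF, hess⟩ := exists_hull_submodule hCinj (LinearMap.range f)
  let e := Submodule.equivMapOfInjective C.subtype (Submodule.injective_subtype C) F
  have hFinj : Module.Injective R (F.map C.subtype) := injective_of_equiv hF e
  have hind : IsIndecomposable R (F.map C.subtype) :=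
    indecomposable_hull_prime p (f := (e.toLinearMap ∘ₗ Submodule.inclusion hle) ∘ₗ (LinearEquiv.ofInjective f hf).toLinearMap)
      ⟨isEssentialInj_comp_equiv (isEssentialInj_equiv hess e) _, hFinj⟩
  exact ⟨F.map C.subtype, Submodule.map_subtype_le C F, Submodule.nontrivial_iff_ne_bot.1 hind.1, hind, hFinj⟩

open scoped Classical in
/-- Decomposition into indecomposables. -/
theorem exists_isInternal_indecomposable [IsNoetherianRing R] (I : Type u) [AddCommGroup I] [Module R I]
    (hI : Module.Injective R I) : ∃ (ι : Type u) (E : ι → Submodule R I), DirectSum.IsInternal E ∧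
      ∀ i, IsIndecomposable R (E i) ∧ Module.Injective R (E i) := by
  classical
  obtain ⟨s, hs⟩ : ∃ s : Set (Submodule R I), Maximal (fun s : Set (Submodule R I) =>
      sSupIndep s ∧ ∀ E ∈ s, IsIndecomposable R E ∧ Module.Injective R E) s := by
    refine zorn_le₀ {s : Set (Submodule R I) | sSupIndep s ∧ ∀ E ∈ s, IsIndecomposable R E ∧ Module.Injective R E}
      fun c hc hchain => ⟨⋃₀ c, ⟨?_, ?_⟩, fun z hz => Set.subset_sUnion_of_mem hz⟩
    · rw [Set.sUnion_eq_iUnion]
      exact sSupIndep_iUnion_of_directed hchain.directedOn.directed_val fun s => (hc s.2).1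
    · rintro E ⟨s, hs, hEs⟩; exact (hc hs).2 E hEs
  have hindep : iSupIndep (fun E : s => (E : Submodule R I)) := (sSupIndep_iff _).1 hs.1.1
  refine ⟨s, fun E => E.1, ?_, fun E => hs.1.2 _ E.2⟩
  convert DirectSum.isInternal_submodule_of_iSupIndep_of_iSup_eq_top hindep ?_
  by_contra htop
  -- the sum is injective, hence has a complement
  have hsum : Module.Injective R (⨆ E : s, (E : Submodule R I) : Submodule R I) := by
    haveI := injective_directSum (R := R) (fun E : s => ↥(E : Submodule R I)) fun E => (hs.1.2 _ E.2).2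
    refine injective_of_equiv this (LinearEquiv.ofBijective
      ((DirectSum.coeLinearMap fun E : s => (E : Submodule R I)).codRestrict _ fun x => ?_) ⟨?_, ?_⟩)
    · rw [← DirectSum.range_coeLinearMap]; exact LinearMap.mem_range_self _ x
    · intro a b hab
      exact hindep.dfinsupp_lsum_injective (congrArg Subtype.val hab)
    · rintro ⟨y, hy⟩
      rw [← DirectSum.range_coeLinearMap] at hy
      obtain ⟨x, rfl⟩ := hy
      exact ⟨x, rfl⟩
  obtain ⟨C, hC⟩ := exists_isCompl_of_injective _ hsum
  have hCne : C ≠ ⊥ := fun h => htop (by have := hC.sup_eq_top; rwa [h, sup_bot_eq] at this)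
  obtain ⟨E, hEC, hE0, hEind, hEinj⟩ := exists_indecomposable_le hI C hCne (injective_of_isCompl hI C _ hC.symm)
  have hdisj : Disjoint E (sSup s) := by
    rw [sSup_eq_iSup']
    exact (hC.disjoint.symm).mono_left hEC
  have hEs : E ∉ s := fun h => hE0 (disjoint_self.1 (hdisj.mono_right (le_sSup h)))
  refine hEs (hs.2 ⟨?_, ?_⟩ (Set.subset_insert E s) (Set.mem_insert E s))
  · intro F hF
    rcases Set.mem_insert_iff.1 hF with rfl | hF'
    · exact hdisj.mono_right (sSup_le_sSup (by simp))
    · have hne : F ≠ E := fun h => hEs (h ▸ hF')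
      rw [Set.insert_diff_of_notMem _ (by simpa using Ne.symm hne), sSup_insert]
      refine Disjoint.disjoint_sup_right_of_disjoint_sup_left (hs.1.1 hF') ?_ |> fun h => by rwa [sup_comm] at h
      exact hdisj.symm.mono_left (sup_le (le_sSup hF') (sSup_le_sSup Set.diff_subset))
  · rintro F (rfl | hF)
    · exact ⟨hEind, hEinj⟩
    · exact hs.1.2 F hF

/-- Injective modules map onto their localisation at powers of an element. -/
theorem mkLinearMap_powers_surjective [IsNoetherianRing R] {I : Type u} [AddCommGroup I] [Module R I]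
    (hI : Module.Injective R I) (f : R) :
    Function.Surjective (LocalizedModule.mkLinearMap (Submonoid.powers f) I) := by
  intro y
  induction y using LocalizedModule.induction_on with
  | h x s =>
    obtain ⟨n, hn⟩ := s.2
    have hn' : f ^ n = (s : R) := hn
    let ann : ℕ →o Submodule R R := ⟨fun k => LinearMap.ker (LinearMap.lsmul R R (f ^ k)), fun a b hab r hr => by
      rw [LinearMap.mem_ker, LinearMap.lsmul_apply] at hr ⊢
      rw [← Nat.sub_add_cancel hab, pow_add, mul_smul, hr, smul_zero]⟩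
    obtain ⟨m, hm⟩ := monotone_stabilizes_iff_noetherian.2 ‹IsNoetherianRing R› ann
    obtain ⟨h, hh⟩ := exists_extend hI
      (Submodule.liftQ (LinearMap.ker (LinearMap.lsmul R R (f ^ (n + m)))) (LinearMap.lsmul R R (f ^ (n + m))) le_rfl)
      (LinearMap.ker_eq_bot.1 (Submodule.ker_liftQ_eq_bot _ _ _ le_rfl))
      (Submodule.liftQ (LinearMap.ker (LinearMap.lsmul R R (f ^ (n + m)))) (LinearMap.toSpanSingleton R I (f ^ m • x))
        (fun r hr => by
          have h1 : r ∈ ann (n + m) := hr
          rw [← hm (n + m) (by omega)] at h1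
          have h2 : f ^ m • r = 0 := h1
          rw [LinearMap.mem_ker, LinearMap.toSpanSingleton_apply, smul_smul, mul_comm, ← smul_eq_mul, h2, zero_smul]))
    refine ⟨h 1, ?_⟩
    have h1 := LinearMap.congr_fun hh (Submodule.Quotient.mk 1)
    simp only [LinearMap.comp_apply, Submodule.liftQ_apply, LinearMap.lsmul_apply, LinearMap.toSpanSingleton_apply, one_smul,
      map_smul] at h1
    rw [LocalizedModule.mkLinearMap_apply, LocalizedModule.mk_eq]
    refine ⟨⟨f ^ m, m, rfl⟩, ?_⟩
    simp only [Submonoid.smul_def, OneMemClass.coe_one, one_smul]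
    rw [← hn', smul_smul, ← pow_add, Nat.add_comm m n, h1]

end InjHullLib
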