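import Groth.Agent.InjHullLib.Local
import Mathlib.RingTheory.AdicCompletion.AsTensorProduct

/-!
# The double dual of a finite module is its completion
-/

set_option autoImplicit false
set_option linter.unusedSectionVars false

universe u

open IsLocalRing InjHull
open scoped TensorProduct

noncomputable section

namespace InjHullLib

variable {R : Type u} [CommRing R] [IsLocalRing R] [IsNoetherianRing R] {E : Type u} [AddCommGroup E] [Module R E]
  {f : ResidueField R →ₗ[R] E}

/-- `R̂ ⊗ W → Hom(Hom(W, E), E)`. -/
def compEval (hf : IsInjectiveHull f) (W : Type u) [AddCommGroup W] [Module R W] :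
    AdicCompletion (maximalIdeal R) R ⊗[R] W →ₗ[R] ((W →ₗ[R] E) →ₗ[R] E) :=
  TensorProduct.lift <| LinearMap.mk₂ R
    (fun ξ w => (completionHom (isPowerTorsion_hull_local hf) ξ).comp (LinearMap.applyₗ w))
    (fun ξ η w => by rw [map_add, LinearMap.add_comp])
    (fun c ξ w => by rw [map_smul, LinearMap.smul_comp])
    (fun ξ v w => by rw [map_add, LinearMap.comp_add])
    (fun c ξ w => by rw [map_smul, LinearMap.comp_smul])

theorem compEval_tmul (hf : IsInjectiveHull f) {W : Type u} [AddCommGroup W] [Module R W]
    (ξ : AdicCompletion (maximalIdeal R) R) (w : W) (φ : W →ₗ[R] E) :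
    compEval hf W (ξ ⊗ₜ w) φ = completionHom (isPowerTorsion_hull_local hf) ξ (φ w) := rfl

theorem compEval_natural (hf : IsInjectiveHull f) {W W' : Type u} [AddCommGroup W] [Module R W] [AddCommGroup W']
    [Module R W'] (π : W →ₗ[R] W') (z : AdicCompletion (maximalIdeal R) R ⊗[R] W) :
    compEval hf W' (π.lTensor _ z) = compEval hf W z ∘ₗ LinearMap.lcomp R E π := by
  induction z using TensorProduct.induction_on with
  | zero => simp
  | add a b ha hb => rw [map_add, map_add, map_add, ha, hb, LinearMap.add_comp]
  | tmul ξ w => exact LinearMap.ext fun φ => rfl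

theorem compEval_bijective_pi (hf : IsInjectiveHull f) (n : ℕ) :
    Function.Bijective (compEval hf (Fin n → R)) := by
  classical
  have hb := completionHom_bijective (m := maximalIdeal R) hf
  let C := AdicCompletion (maximalIdeal R) R
  let e : C ⊗[R] (Fin n → R) ≃ₗ[R] (Fin n → C) := TensorProduct.piScalarRight R R C (Fin n)
  let q : (Fin n → C) →ₗ[R] (((Fin n → R) →ₗ[R] E) →ₗ[R] E) :=
    ∑ i, (compEval hf (Fin n → R) ∘ₗ (TensorProduct.mk R C (Fin n → R)).flip (Pi.single i 1)) ∘ₗ LinearMap.proj i
  have hq : ∀ z, q (e z) = compEval hf (Fin n → R) z := fun z => by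
    obtain ⟨v, rfl⟩ := e.symm.surjective z
    rw [e.apply_symm_apply]
    have : e.symm v = ∑ i, v i ⊗ₜ[R] (Pi.single i 1 : Fin n → R) := by
      refine e.injective ?_
      rw [e.apply_symm_apply, map_sum]
      funext j
      simp [e, Finset.sum_apply, Pi.single_apply, TensorProduct.piScalarRight_apply]
    rw [this, map_sum]
    simp [q, LinearMap.sum_apply]
  have hqb : Function.Bijective q := by
    constructor
    · refine (injective_iff_map_eq_zero _).2 fun v hv => funext fun j => hb.1 ?_
      rw [Pi.zero_apply, map_zero]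
      refine LinearMap.ext fun x => ?_
      have h1 := LinearMap.congr_fun hv ((LinearMap.toSpanSingleton R E x).comp (LinearMap.proj j))
      simp only [q, LinearMap.sum_apply, LinearMap.comp_apply, LinearMap.proj_apply, LinearMap.flip_apply,
        TensorProduct.mk_apply, compEval_tmul, LinearMap.toSpanSingleton_apply, LinearMap.zero_apply] at h1
      rw [Finset.sum_eq_single j (fun i _ hij => by
          show completionHom (isPowerTorsion_hull_local hf) (v i) ((Pi.single i (1 : R) : Fin n → R) j • x) = 0
          rw [Pi.single_eq_of_ne hij.symm, zero_smul, map_zero])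
        (fun h => absurd (Finset.mem_univ j) h)] at h1
      change completionHom (isPowerTorsion_hull_local hf) (v j) ((Pi.single j (1 : R) : Fin n → R) j • x) = 0 at h1
      rwa [Pi.single_eq_same, one_smul] at h1
    · intro Φ
      choose v hv using fun i => hb.2 (Φ ∘ₗ LinearMap.lcomp R E (LinearMap.proj i) ∘ₗ (LinearMap.ringLmapEquivSelf R R E).symm.toLinearMap)
      refine ⟨v, LinearMap.ext fun ψ => ?_⟩
      have hψ : ψ = ∑ i, ((LinearMap.ringLmapEquivSelf R R E).symm (ψ (Pi.single i 1))) ∘ₗ LinearMap.proj i :=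
        LinearMap.pi_ext' fun i => LinearMap.ext_ring (by simp [Pi.single_apply, LinearMap.sum_apply])
      conv_rhs => rw [hψ, map_sum]
      simp only [q, LinearMap.sum_apply, LinearMap.comp_apply, LinearMap.proj_apply, LinearMap.flip_apply,
        TensorProduct.mk_apply]
      exact Finset.sum_congr rfl fun i _ => LinearMap.congr_fun (hv i) (ψ (Pi.single i 1))
  have : (compEval hf (Fin n → R) : _ → _) = q ∘ e := funext fun z => (hq z).symm
  rw [this]
  exact hqb.comp e.bijective

theorem compEval_surjective (hf : IsInjectiveHull f) (W : Type u) [AddCommGroup W] [Module R W] [Module.Finite R W] :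
    Function.Surjective (compEval hf W) := by
  obtain ⟨n, π, hπ⟩ := Module.Finite.exists_fin' R W
  intro Φ
  obtain ⟨Ψ, hΨ⟩ := exists_extend hf.isInjective (LinearMap.lcomp R E π)
    (fun a b h => (LinearMap.cancel_right hπ).1 h) Φ
  obtain ⟨z, hz⟩ := (compEval_bijective_pi hf n).2 Ψ
  exact ⟨π.lTensor _ z, by rw [compEval_natural, hz, hΨ]⟩

/-- The double dual of a finite module. -/
theorem compEval_bijective (hf : IsInjectiveHull f) (W : Type u) [AddCommGroup W] [Module R W] [Module.Finite R W] :
    Function.Bijective (compEval hf W) := by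
  refine ⟨(injective_iff_map_eq_zero _).2 fun z hz => ?_, compEval_surjective hf W⟩
  obtain ⟨n, π, hπ⟩ := Module.Finite.exists_fin' R W
  obtain ⟨z', rfl⟩ := LinearMap.lTensor_surjective (AdicCompletion (maximalIdeal R) R) hπ z
  let K := LinearMap.ker π
  let b : ((Fin n → R) →ₗ[R] E) →ₗ[R] (K →ₗ[R] E) := LinearMap.lcomp R E K.subtype
  obtain ⟨ψ₀, hψ₀⟩ : ∃ ψ, ψ ∘ₗ b = compEval hf (Fin n → R) z' := by
    have hker : LinearMap.ker b ≤ LinearMap.ker (compEval hf (Fin n → R) z') := fun φ hφ => by
      rw [compEval_natural] at hz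
      have h1 : φ = LinearMap.lcomp R E π ((LinearMap.ker π).liftQ φ (fun x hx =>
          LinearMap.congr_fun hφ ⟨x, hx⟩) ∘ₗ (LinearMap.quotKerEquivOfSurjective π hπ).symm.toLinearMap) := by
        refine LinearMap.ext fun x => ?_
        show φ x = (LinearMap.ker π).liftQ φ (fun y hy => LinearMap.congr_fun hφ ⟨y, hy⟩)
          ((LinearMap.quotKerEquivOfSurjective π hπ).symm (π x))
        rw [(LinearEquiv.symm_apply_eq _).2 (LinearMap.quotKerEquivOfSurjective_apply_mk π hπ x).symm]
        rfl
      rw [LinearMap.mem_ker, h1]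
      exact LinearMap.congr_fun hz _
    obtain ⟨ψ, hψ⟩ := (Module.Baer.of_injective hf.isInjective).extension_property ((LinearMap.ker b).liftQ b le_rfl)
      (LinearMap.ker_eq_bot.1 (Submodule.ker_liftQ_eq_bot _ _ _ le_rfl))
      ((LinearMap.ker b).liftQ (compEval hf (Fin n → R) z') hker)
    exact ⟨ψ, LinearMap.ext fun φ => LinearMap.congr_fun hψ (Submodule.Quotient.mk φ)⟩
  obtain ⟨w, hw⟩ := compEval_surjective hf K ψ₀
  have : z' = K.subtype.lTensor _ w := (compEval_bijective_pi hf n).1 (by
    rw [compEval_natural, hw]; exact hψ₀.symm)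
  rw [this, ← LinearMap.comp_apply, ← LinearMap.lTensor_comp,
    show π ∘ₗ K.subtype = 0 from LinearMap.ext fun x => x.2, LinearMap.lTensor_zero, LinearMap.zero_apply]

theorem nonempty_completion_doubleDual (hf : IsInjectiveHull f) (W : Type u) [AddCommGroup W] [Module R W]
    [Module.Finite R W] :
    Nonempty (AdicCompletion (maximalIdeal R) W ≃ₗ[R] ((W →ₗ[R] E) →ₗ[R] E)) :=
  ⟨(((AdicCompletion.ofTensorProductEquivOfFiniteNoetherian (maximalIdeal R) W).restrictScalars R).symm).trans
    (LinearEquiv.ofBijective _ (compEval_bijective hf W))⟩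

end InjHullLib
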