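import Groth.Agent.InjHullLib.Quotient

/-!
# Base change of hulls along flat local maps
-/

universe u v w

namespace InjHullLib

open InjHull IsLocalRing TensorProduct

variable {A : Type u} [CommRing A] {B : Type u} [CommRing B] [Algebra A B] [Module.Flat A B]

/-- Killed parts commute with flat base change. -/
lemma exists_equiv_torsionBy_baseChange (J : Ideal A) (hJ : J.FG) (G : Type u) [AddCommGroup G] [Module A G] :
    Nonempty (B ⊗[A] LocCoh.torsionBy J G ≃ₗ[B] LocCoh.torsionBy (J.map (algebraMap A B)) (B ⊗[A] G)) := by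
  classical
  obtain ⟨s, hs⟩ := hJ
  let μ : G →ₗ[A] (s → G) := LinearMap.pi fun a => LinearMap.lsmul A G (a : A)
  have hex : Function.Exact (LocCoh.torsionBy J G).subtype μ := by
    intro x
    refine ⟨fun hx => ⟨⟨x, mem_torsionBy_iff.2 fun a ha => ?_⟩, rfl⟩, ?_⟩
    · have ha' : a ∈ Submodule.span A (s : Set A) := (show J = Submodule.span A (s : Set A) from hs.symm) ▸ ha
      clear ha
      induction ha' using Submodule.span_induction with
      | mem a ha => exact congrFun hx ⟨a, ha⟩
      | zero => exact zero_smul A x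
      | add a b _ _ ha hb => rw [add_smul, ha, hb, add_zero]
      | smul c a _ ha => rw [smul_assoc, ha, smul_zero]
    · rintro ⟨x, rfl⟩
      exact funext fun a => mem_torsionBy_iff.1 x.2 _ (hs ▸ Ideal.subset_span a.2)
  have hex' := Module.Flat.lTensor_exact B hex
  have hinj := Module.Flat.lTensor_preserves_injective_linearMap (M := B) (LocCoh.torsionBy J G).subtype (Submodule.injective_subtype _)
  let ι : B ⊗[A] LocCoh.torsionBy J G →ₗ[B] B ⊗[A] G := (LocCoh.torsionBy J G).subtype.baseChange B
  have hι : ∀ z, ι z = (LocCoh.torsionBy J G).subtype.lTensor B z := fun z => by simp [ι, LinearMap.baseChange_eq_ltensor]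
  have hproj : ∀ (a : s) (z : B ⊗[A] G), ((LinearMap.proj a).lTensor B) (μ.lTensor B z) = (algebraMap A B a) • z := by
    intro a z
    induction z using TensorProduct.induction_on with
    | zero => simp
    | add x y hx hy => simp only [map_add, hx, hy, smul_add]
    | tmul b g =>
      simp [μ, TensorProduct.smul_tmul', Algebra.smul_def, TensorProduct.tmul_smul, IsScalarTower.algebraMap_smul]
  have hrange : LinearMap.range ι = LocCoh.torsionBy (J.map (algebraMap A B)) (B ⊗[A] G) := by
    refine le_antisymm ?_ fun z hz => ?_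
    · rintro _ ⟨z, rfl⟩
      refine mem_torsionBy_iff.2 fun c hc => ?_
      induction hc using Submodule.span_induction with
      | zero => rw [zero_smul]
      | add a b _ _ ha hb => rw [add_smul, ha, hb, add_zero]
      | smul r a _ ha => rw [smul_assoc, ha, smul_zero]
      | mem a ha =>
        obtain ⟨a, ha, rfl⟩ := ha
        rw [← map_smul]
        have : algebraMap A B a • z = 0 := by
          induction z using TensorProduct.induction_on with
          | zero => simp
          | add x y hx hy => rw [smul_add, hx, hy, add_zero]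
          | tmul b x =>
            rw [algebraMap_smul, ← TensorProduct.tmul_smul, show a • x = 0 from Subtype.ext (mem_torsionBy_iff.1 x.2 a ha),
              TensorProduct.tmul_zero]
        rw [this, map_zero]
    · have h0 : μ.lTensor B z = 0 := by
        apply (TensorProduct.piRight A A B (fun _ : s => G)).injective
        rw [map_zero]
        funext a
        have h1 : (TensorProduct.piRight A A B (fun _ : s => G) (μ.lTensor B z)) a = ((LinearMap.proj a).lTensor B) (μ.lTensor B z) := by
          generalize μ.lTensor B z = w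
          induction w using TensorProduct.induction_on with
          | zero => simp
          | add x y hx hy => simp only [map_add, Pi.add_apply, hx, hy]
          | tmul b g => simp
        rw [h1, hproj, Pi.zero_apply]
        exact mem_torsionBy_iff.1 hz _ (Ideal.mem_map_of_mem _ (hs ▸ Ideal.subset_span a.2))
      obtain ⟨w, rfl⟩ := (hex' z).1 h0
      exact ⟨w, hι w⟩
  exact ⟨(LinearEquiv.ofInjective ι fun x y h => hinj (by rwa [hι, hι] at h)).trans (LinearEquiv.ofEq _ _ hrange)⟩

variable [IsLocalRing A] [IsNoetherianRing A] [IsLocalRing B] [IsNoetherianRing B]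

lemma tensor_simple_equiv (Q : Type u) [AddCommGroup Q] [Module A Q] [IsSimpleModule A Q] :
    Nonempty (B ⊗[A] Q ≃ₗ[B] B ⧸ (maximalIdeal A).map (algebraMap A B)) := by
  obtain ⟨I, hI, ⟨e⟩⟩ := isSimpleModule_iff_quot_maximal.1 ‹IsSimpleModule A Q›
  obtain rfl : I = maximalIdeal A := IsLocalRing.eq_maximalIdeal hI
  exact ⟨(LinearEquiv.baseChange A B Q (A ⧸ maximalIdeal A) e).trans
    (Algebra.TensorProduct.quotIdealMapEquivTensorQuot B (maximalIdeal A)).symm.toLinearEquiv⟩

/-- Length of a base change along a flat map. -/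
theorem length_tensor {N : Type u} [AddCommGroup N] [Module A N] (hN : IsFiniteLength A N) :
    Module.length B (B ⊗[A] N) = Module.length A N * Module.length B (B ⧸ (maximalIdeal A).map (algebraMap A B)) := by
  induction hN with
  | of_subsingleton => rw [Module.length_eq_zero, Module.length_eq_zero, zero_mul]
  | of_simple_quotient hN' ih =>
    rename_i M _ _ N hsimple
    obtain ⟨e⟩ := tensor_simple_equiv (A := A) (B := B) (M ⧸ N)
    rw [Module.length_eq_add_of_exact (N.subtype.baseChange B) (N.mkQ.baseChange B)
        (Module.Flat.lTensor_preserves_injective_linearMap N.subtype (Submodule.injective_subtype N))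
        (LinearMap.lTensor_surjective B (Submodule.mkQ_surjective N))
        (Module.Flat.lTensor_exact B (LinearMap.exact_subtype_mkQ N)),
      Module.length_eq_add_of_exact N.subtype N.mkQ (Submodule.injective_subtype N) (Submodule.mkQ_surjective N)
        (LinearMap.exact_subtype_mkQ N), ih, e.length_eq, Module.length_eq_one A (M ⧸ N), add_mul, one_mul]

/-- Base change of a hull along a flat map whose closed fibre has simple socle and finite length. -/
theorem exists_hull_baseChange {E : Type u} [AddCommGroup E] [Module A E] {f : ResidueField A →ₗ[A] E}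
    (hf : IsInjectiveHull f) (c : ℕ) (hc : maximalIdeal B ^ c ≤ (maximalIdeal A).map (algebraMap A B))
    (hle : (maximalIdeal A).map (algebraMap A B) ≤ maximalIdeal B)
    (hsoc : Module.length B (LocCoh.torsionBy (maximalIdeal B) (B ⧸ (maximalIdeal A).map (algebraMap A B))) = 1) :
    ∃ g : ResidueField B →ₗ[B] B ⊗[A] E, IsInjectiveHull g := by
  set mA := maximalIdeal A
  set J := mA.map (algebraMap A B)
  have hE := isPowerTorsion_hull_local hf
  have htors : LocCoh.IsPowerTorsion (maximalIdeal B) (B ⊗[A] E) := by
    intro z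
    induction z using TensorProduct.induction_on with
    | zero => exact ⟨0, fun a _ => smul_zero a⟩
    | add x y hx hy =>
      obtain ⟨a, ha⟩ := hx
      obtain ⟨b, hb⟩ := hy
      exact ⟨a + b, fun r hr => by rw [smul_add, ha r (Ideal.pow_le_pow_right (by omega) hr), hb r (Ideal.pow_le_pow_right (by omega) hr), add_zero]⟩
    | tmul b x =>
      obtain ⟨n, hn⟩ := hE x
      refine ⟨c * n, fun r hr => ?_⟩
      have h1 : r ∈ (mA ^ n).map (algebraMap A B) := by
        rw [Ideal.map_pow]
        exact Ideal.pow_right_mono hc n (by rwa [← pow_mul])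
      clear hr
      induction h1 using Submodule.span_induction with
      | zero => rw [zero_smul]
      | add a a' _ _ ha hb => rw [add_smul, ha, hb, add_zero]
      | smul t a _ ha => rw [smul_assoc, ha, smul_zero]
      | mem a ha =>
        obtain ⟨a, ha, rfl⟩ := ha
        rw [algebraMap_smul, ← TensorProduct.tmul_smul, hn a ha, TensorProduct.tmul_zero]
  -- the socle
  obtain ⟨e1⟩ := exists_equiv_torsionBy_baseChange (B := B) mA (IsNoetherian.noetherian _) E
  haveI : IsSimpleModule A (ResidueField A) :=
    isSimpleModule_iff_quot_maximal.2 ⟨mA, inferInstance, ⟨LinearEquiv.refl A _⟩⟩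
  haveI : IsSimpleModule A (LocCoh.torsionBy mA E) :=
    IsSimpleModule.congr ((LinearEquiv.ofEq _ _ (socle_eq_range hf)).trans (LinearEquiv.ofInjective f hf.injective).symm)
  obtain ⟨e2⟩ := tensor_simple_equiv (A := A) (B := B) (LocCoh.torsionBy mA E)
  have hsocle : Module.length B (LocCoh.torsionBy (maximalIdeal B) (B ⊗[A] E)) = 1 := by
    rw [← hsoc]
    let e := e1.symm.trans e2
    have hsub : ∀ z : B ⊗[A] E, z ∈ LocCoh.torsionBy (maximalIdeal B) (B ⊗[A] E) → z ∈ LocCoh.torsionBy J (B ⊗[A] E) :=
      fun z hz => mem_torsionBy_iff.2 fun a ha => mem_torsionBy_iff.1 hz a (hle ha)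
    refine LinearEquiv.length_eq
      { toFun := fun z => ⟨e ⟨z, hsub z z.2⟩, mem_torsionBy_iff.2 fun a ha => by
          rw [← map_smul, show a • (⟨(z : B ⊗[A] E), hsub z z.2⟩ : LocCoh.torsionBy J (B ⊗[A] E)) = 0 from
            Subtype.ext (mem_torsionBy_iff.1 z.2 a ha), map_zero]⟩
        map_add' := fun x y => Subtype.ext (map_add e ⟨_, hsub x x.2⟩ ⟨_, hsub y y.2⟩)
        map_smul' := fun r x => Subtype.ext (map_smul e r ⟨_, hsub x x.2⟩)
        invFun := fun q => ⟨(e.symm q : LocCoh.torsionBy J (B ⊗[A] E)), mem_torsionBy_iff.2 fun a ha => by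
          rw [← Submodule.coe_smul, ← map_smul, mem_torsionBy_iff.1 q.2 a ha, map_zero, Submodule.coe_zero]⟩
        left_inv := fun z => Subtype.ext (show ((e.symm (e ⟨_, hsub z z.2⟩) : LocCoh.torsionBy J (B ⊗[A] E)) : B ⊗[A] E) = z by
          rw [e.symm_apply_apply])
        right_inv := fun q => Subtype.ext (e.apply_symm_apply q) }
  refine exists_hull_of_length htors hsocle (fun n => (mA ^ n).map (algebraMap A B))
    (fun n => ⟨c * n, by rw [Ideal.map_pow, pow_mul]; exact Ideal.pow_right_mono hc n⟩)
    (fun N => ⟨N, by rw [Ideal.map_pow]; exact Ideal.pow_right_mono hle N⟩) fun n => le_of_eq ?_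
  -- both lengths are multiples of the length of `A/m^n`
  obtain ⟨e3⟩ := exists_equiv_torsionBy_baseChange (B := B) (mA ^ n) (IsNoetherian.noetherian _) E
  have hfl := isFiniteLength_quotient_pow (m := mA) n
  have hkill : ∀ a ∈ mA ^ n, ∀ q : A ⧸ mA ^ n, a • q = 0 := fun a ha q => by
    obtain ⟨q, rfl⟩ := Submodule.Quotient.mk_surjective _ q
    rw [← Submodule.Quotient.mk_smul, Submodule.Quotient.mk_eq_zero]
    exact Ideal.mul_mem_right _ _ ha
  have hL := length_hom (m := mA) hf hfl hkill
  have hfl' : IsFiniteLength A (LocCoh.torsionBy (mA ^ n) E) := Module.length_ne_top_iff.1 (by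
    rw [← (homResidueEquiv E (mA ^ n)).length_eq, hL]; exact Module.length_ne_top_iff.2 hfl)
  have h5 := LinearEquiv.length_eq (R := B) (M := (B ⧸ (mA ^ n).map (algebraMap A B)) →ₗ[B] B ⊗[A] E)
    (N := LocCoh.torsionBy ((mA ^ n).map (algebraMap A B)) (B ⊗[A] E)) (homResidueEquiv (B ⊗[A] E) ((mA ^ n).map (algebraMap A B)))
  have h6 := LinearEquiv.length_eq (R := B) (M := LocCoh.torsionBy ((mA ^ n).map (algebraMap A B)) (B ⊗[A] E))
    (N := B ⊗[A] LocCoh.torsionBy (mA ^ n) E) e3.symm
  refine Eq.trans ?_ (h5.trans h6).symm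
  rw [length_tensor hfl', ← (homResidueEquiv E (mA ^ n)).length_eq, hL, ← length_tensor (B := B) hfl]
  exact (Algebra.TensorProduct.quotIdealMapEquivTensorQuot B (mA ^ n)).toLinearEquiv.length_eq

end InjHullLib
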