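import Groth.Agent.InjHullLib.Socle

/-!
# Socles of coinduced modules
-/

universe u v w

namespace InjHullLib

open InjHull IsLocalRing

section FiniteKilled

variable {R : Type u} [CommRing R] [IsLocalRing R]

/-- A finite module killed by the maximal ideal has finite length. -/
theorem length_ne_top_of_killed {M : Type v} [AddCommGroup M] [Module R M] [Module.Finite R M]
    (h : ∀ a ∈ maximalIdeal R, ∀ x : M, a • x = 0) : Module.length R M ≠ ⊤ := by
  letI := Ideal.Quotient.field (maximalIdeal R)
  letI : Module (R ⧸ maximalIdeal R) M := Module.IsTorsionBySet.module (I := maximalIdeal R) fun x a => h a a.2 x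
  haveI : IsScalarTower R (R ⧸ maximalIdeal R) M := IsScalarTower.of_algebraMap_smul fun _ _ => rfl
  haveI : Module.Finite (R ⧸ maximalIdeal R) M := Module.Finite.of_restrictScalars_finite R _ _
  rw [Module.length_eq_of_surjective (R := R ⧸ maximalIdeal R) (S := R) (M := M) Ideal.Quotient.mk_surjective,
    Module.length_eq_finrank]
  exact ENat.natCast_ne_top _

end FiniteKilled

variable {A B : Type u} [CommRing A] [CommRing B] [Algebra A B] {E : Type u} [AddCommGroup E] [Module A E]

/-- A member of a coinduced module as a linear map. -/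
noncomputable def coextLin (φ : (ModuleCat.coextendScalars (algebraMap A B)).obj (ModuleCat.of A E)) : B →ₗ[A] E where
  toFun b := φ b
  map_add' x y := LinearMap.map_add φ x y
  map_smul' a b := by rw [Algebra.smul_def]; exact LinearMap.map_smul φ a b

/-- A linear map as a member of the coinduced module. -/
noncomputable def coextMk (ψ : B →ₗ[A] E) : (ModuleCat.coextendScalars (algebraMap A B)).obj (ModuleCat.of A E) :=
  show (ModuleCat.restrictScalars (algebraMap A B)).obj (ModuleCat.of B B) →ₗ[A] E from
  { toFun := fun (b : B) => ψ b
    map_add' := fun x y => ψ.map_add x y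
    map_smul' := fun a (b : B) => show ψ (algebraMap A B a * b) = a • ψ b by rw [← Algebra.smul_def, map_smul] }

lemma coext_ext {φ ψ : (ModuleCat.coextendScalars (algebraMap A B)).obj (ModuleCat.of A E)} (h : ∀ b : B, φ b = ψ b) :
    φ = ψ := LinearMap.ext h

variable [IsLocalRing B]

/-- The socle of a coinduced module is the dual of the residue field, in length. -/
theorem length_socle_coext [Module A ((ModuleCat.coextendScalars (algebraMap A B)).obj (ModuleCat.of A E))]
    [IsScalarTower A B ((ModuleCat.coextendScalars (algebraMap A B)).obj (ModuleCat.of A E))] :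
    Module.length A (LocCoh.torsionBy (maximalIdeal B) ((ModuleCat.coextendScalars (algebraMap A B)).obj (ModuleCat.of A E))) =
      Module.length A ((B ⧸ maximalIdeal B) →ₗ[A] E) :=
  LinearEquiv.length_eq
    { toFun := fun φ => Submodule.liftQ ((maximalIdeal B).restrictScalars A) (coextLin φ.1) fun b hb => by
        have h := congrArg (fun ψ : (ModuleCat.coextendScalars (algebraMap A B)).obj (ModuleCat.of A E) => ψ (1 : B))
          (mem_torsionBy_iff.1 φ.2 b hb)
        show φ.1 b = 0
        rw [← one_mul b]
        exact h
      map_add' := fun φ ψ => Submodule.linearMap_qext _ (LinearMap.ext fun _ => rfl)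
      map_smul' := fun a φ => Submodule.linearMap_qext _ (LinearMap.ext fun b => by
        show (a • φ.1) b = a • φ.1 b
        rw [← IsScalarTower.algebraMap_smul B a φ.1, smul_coextend_apply, mul_comm, ← Algebra.smul_def]
        exact (coextLin φ.1).map_smul a b)
      invFun := fun ψ => ⟨coextMk (ψ ∘ₗ (Submodule.mkQ (maximalIdeal B)).restrictScalars A), mem_torsionBy_iff.2 fun b hb => coext_ext fun x => by
        show ψ (Submodule.mkQ (maximalIdeal B) (x * b)) = 0
        rw [show Submodule.mkQ (maximalIdeal B) (x * b) = 0 from
          (Submodule.Quotient.mk_eq_zero _).2 (Ideal.mul_mem_left _ x hb), map_zero]⟩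
      left_inv := fun φ => Subtype.ext (coext_ext fun _ => rfl)
      right_inv := fun ψ => LinearMap.ext fun q => by
        obtain ⟨b, rfl⟩ := Submodule.Quotient.mk_surjective _ q
        rfl }

/-- The torsion part of an injective module with small socle is a hull of the residue field. -/
theorem exists_hull_torsionPart {R S : Type u} [CommRing R] [CommRing S] [IsLocalRing S] [IsNoetherianRing S] [Algebra R S]
    {C : Type u} [AddCommGroup C] [Module S C] [Module R C] [IsScalarTower R S C] (hC : Module.Injective S C)
    (hfin : Module.length R (S ⧸ maximalIdeal S) ≠ ⊤)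
    (heq : Module.length R (LocCoh.torsionBy (maximalIdeal S) C) = Module.length R (S ⧸ maximalIdeal S)) :
    ∃ g : ResidueField S →ₗ[S] torsionPart (maximalIdeal S) C, IsInjectiveHull g := by
  let e : LocCoh.torsionBy (maximalIdeal S) (torsionPart (maximalIdeal S) C) ≃ₗ[R] LocCoh.torsionBy (maximalIdeal S) C :=
    { toFun := fun x => ⟨((x : torsionPart (maximalIdeal S) C) : C), mem_torsionBy_iff.2 fun a ha =>
        congrArg Subtype.val (mem_torsionBy_iff.1 x.2 a ha)⟩
      map_add' := fun _ _ => rfl
      map_smul' := fun _ _ => rfl
      invFun := fun x => ⟨⟨x, mem_torsionPart.2 ⟨1, fun a ha =>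
          mem_torsionBy_iff.1 x.2 a (by rwa [pow_one] at ha)⟩⟩,
        mem_torsionBy_iff.2 fun a ha => Subtype.ext (mem_torsionBy_iff.1 x.2 a ha)⟩
      left_inv := fun _ => rfl
      right_inv := fun _ => rfl }
  refine exists_hull_of_socle R (injective_torsionPart hC _) (fun x => ?_) hfin (e.length_eq.trans heq)
  obtain ⟨n, hn⟩ := mem_torsionPart.1 x.2
  exact ⟨n, fun r hr => Subtype.ext (hn r hr)⟩

end InjHullLib
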