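import Groth.Agent.InjHullLib.Coext

/-!
# Coinduced modules over semilocal rings: decomposition by maximal ideals
-/

universe u v w

namespace InjHullLib

open InjHull IsLocalRing

section Socle

variable (A : Type u) [CommRing A] {B : Type u} [CommRing B] [Algebra A B] (n : Ideal B) [n.IsMaximal]
variable {H : Type u} [AddCommGroup H] [Module B H] [Module A H] [IsScalarTower A B H]

/-- A socle of residual length recognises the hull at a maximal ideal. -/
theorem exists_hull_of_socle_maximal (hinj : Module.Injective B H) (htors : LocCoh.IsPowerTorsion n H)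
    (hfin : Module.length A (B ⧸ n) ≠ ⊤)
    (heq : Module.length A (LocCoh.torsionBy n H) = Module.length A (B ⧸ n)) :
    ∃ g : (B ⧸ n) →ₗ[B] H, IsInjectiveHull g := by
  letI := Ideal.Quotient.field n
  set S := LocCoh.torsionBy n H
  have hne : Nontrivial S := by
    by_contra h
    rw [not_nontrivial_iff_subsingleton] at h
    rw [Module.length_eq_zero, eq_comm, Module.length_eq_zero_iff] at heq
    exact not_subsingleton (B ⧸ n) heq
  obtain ⟨y, hy⟩ := exists_ne (0 : S)
  let g : (B ⧸ n) →ₗ[B] H := Submodule.liftQ (n : Submodule B B) (LinearMap.toSpanSingleton B H (y : H)) fun b hb => by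
    rw [LinearMap.mem_ker, LinearMap.toSpanSingleton_apply]
    exact mem_torsionBy_iff.1 y.2 b hb
  have hrange_le : LinearMap.range g ≤ S := by
    rintro _ ⟨q, rfl⟩
    obtain ⟨b, rfl⟩ := Submodule.Quotient.mk_surjective _ q
    exact S.smul_mem b y.2
  haveI : IsSimpleModule B (B ⧸ n) := isSimpleModule_iff_quot_maximal.2 ⟨n, inferInstance, ⟨LinearEquiv.refl B _⟩⟩
  have hg : Function.Injective g := (LinearMap.injective_or_eq_zero g).resolve_right fun h => hy (Subtype.ext (by
    have h1 := LinearMap.congr_fun h (Submodule.Quotient.mk 1)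
    exact (one_smul B (y : H)).symm.trans h1))
  let ι : (B ⧸ n) →ₗ[B] S := g.codRestrict S fun q => hrange_le (LinearMap.mem_range_self g q)
  have hι : Function.Injective (ι.restrictScalars A) := fun a b h => hg (congrArg Subtype.val h)
  have hadd := Module.length_eq_add_of_exact (R := A) (ι.restrictScalars A) (LinearMap.range (ι.restrictScalars A)).mkQ hι
    (Submodule.mkQ_surjective _) (LinearMap.exact_map_mkQ_range _)
  rw [heq] at hadd
  have hzero : Module.length A (S ⧸ LinearMap.range (ι.restrictScalars A)) = 0 :=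
    ((ENat.addLECancellable_of_ne_top hfin).inj.1 ((add_zero _).trans hadd)).symm
  rw [Module.length_eq_zero_iff, Submodule.Quotient.subsingleton_iff] at hzero
  refine ⟨g, ⟨isEssentialInj_of_exists_smul hg fun x hx => ?_, hinj⟩⟩
  obtain ⟨r, ⟨s, hs⟩, hr⟩ := exists_smul_mem_of_essential (socle_essential htors) hx
  obtain ⟨q, hq⟩ := (hzero.ge trivial : s ∈ LinearMap.range (ι.restrictScalars A))
  exact ⟨r, ⟨q, (congrArg Subtype.val hq).trans hs⟩, hr⟩

end Socle

section Torsion

variable {B : Type u} [CommRing B] {H : Type v} [AddCommGroup H] [Module B H]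

/-- Torsion parts of distinct maximal ideals are independent. -/
theorem iSupIndep_torsionPart : iSupIndep fun n : MaximalSpectrum B => torsionPart n.asIdeal H := by
  intro n
  rw [disjoint_iff_inf_le]
  rintro x ⟨hx, hx'⟩
  obtain ⟨k, hk⟩ := mem_torsionPart.1 hx
  have key : ∃ I : Ideal B, IsCoprime (n.asIdeal ^ k) I ∧ ∀ a ∈ I, a • x = 0 := by
    clear hk hx
    rw [iSup_subtype'] at hx'
    induction hx' using Submodule.iSup_induction' with
    | mem i y hy =>
      obtain ⟨l, hl⟩ := mem_torsionPart.1 hy
      refine ⟨i.1.asIdeal ^ l, IsCoprime.pow ?_, hl⟩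
      exact Ideal.isCoprime_iff_sup_eq.2 (n.isMaximal.coprime_of_ne i.1.isMaximal fun h => i.2 (MaximalSpectrum.ext h.symm))
    | zero => exact ⟨⊤, Ideal.isCoprime_iff_sup_eq.2 (sup_top_eq _), fun a _ => smul_zero a⟩
    | add y z _ _ hy hz =>
      obtain ⟨I, hI, hI'⟩ := hy
      obtain ⟨J, hJ, hJ'⟩ := hz
      refine ⟨I * J, hI.mul_right hJ, fun a ha => ?_⟩
      rw [smul_add, hI' a (Ideal.mul_le_left ha), hJ' a (Ideal.mul_le_right ha), add_zero]
  obtain ⟨I, hI, hI'⟩ := key
  obtain ⟨a, ha, b, hb, hab⟩ := Ideal.isCoprime_iff_exists.1 hI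
  rw [Submodule.mem_bot, ← one_smul B x, ← hab, add_smul, hk a ha, hI' b hb, add_zero]

/-- An element killed by a product of pairwise coprime ideals splits. -/
lemma mem_iSup_torsionPart_of_prod {ι : Type w} (p : ι → MaximalSpectrum B) (hp : Function.Injective p) (k : ℕ) (s : Finset ι) :
    ∀ x : H, (∀ a ∈ ∏ i ∈ s, (p i).asIdeal ^ k, a • x = 0) → x ∈ ⨆ n : MaximalSpectrum B, torsionPart n.asIdeal H := by
  classical
  induction s using Finset.induction_on with
  | empty =>
    intro x hx
    rw [show x = 0 by simpa using hx 1 (by simp)]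
    exact zero_mem _
  | insert i s hi ih =>
    intro x hx
    rw [Finset.prod_insert hi] at hx
    have hcop : IsCoprime ((p i).asIdeal ^ k) (∏ j ∈ s, (p j).asIdeal ^ k) := IsCoprime.prod_right fun j hj =>
      IsCoprime.pow (Ideal.isCoprime_iff_sup_eq.2 ((p i).isMaximal.coprime_of_ne (p j).isMaximal fun h =>
        hi (hp (MaximalSpectrum.ext h) ▸ hj)))
    obtain ⟨a, ha, b, hb, hab⟩ := Ideal.isCoprime_iff_exists.1 hcop
    rw [← one_smul B x, ← hab, add_smul]
    refine add_mem (ih _ fun c hc => ?_) (le_iSup (fun n : MaximalSpectrum B => torsionPart n.asIdeal H) (p i)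
      (mem_torsionPart.2 ⟨k, fun c hc => ?_⟩))
    · rw [smul_smul]; exact hx _ (mul_comm a c ▸ Ideal.mul_mem_mul ha hc)
    · rw [smul_smul]; exact hx _ (Ideal.mul_mem_mul hc hb)

end Torsion

section CoextMaximal

variable {A B : Type u} [CommRing A] [CommRing B] [Algebra A B] {E : Type u} [AddCommGroup E] [Module A E]

/-- The socle of a coinduced module is the dual of the residue field, in length. -/
theorem length_socle_coext_maximal (n : Ideal B) [Module A ((ModuleCat.coextendScalars (algebraMap A B)).obj (ModuleCat.of A E))]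
    [IsScalarTower A B ((ModuleCat.coextendScalars (algebraMap A B)).obj (ModuleCat.of A E))] :
    Module.length A (LocCoh.torsionBy n ((ModuleCat.coextendScalars (algebraMap A B)).obj (ModuleCat.of A E))) =
      Module.length A ((B ⧸ n) →ₗ[A] E) :=
  LinearEquiv.length_eq
    { toFun := fun φ => Submodule.liftQ (n.restrictScalars A) (coextLin φ.1) fun b hb => by
        have h := congrArg (fun ψ : (ModuleCat.coextendScalars (algebraMap A B)).obj (ModuleCat.of A E) => ψ (1 : B))
          (mem_torsionBy_iff.1 φ.2 b hb)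
        show φ.1 b = 0
        rw [← one_mul b]
        exact h
      map_add' := fun φ ψ => Submodule.linearMap_qext _ (LinearMap.ext fun _ => rfl)
      map_smul' := fun a φ => Submodule.linearMap_qext _ (LinearMap.ext fun b => by
        show (a • φ.1) b = a • φ.1 b
        rw [← IsScalarTower.algebraMap_smul B a φ.1, smul_coextend_apply, mul_comm, ← Algebra.smul_def]
        exact (coextLin φ.1).map_smul a b)
      invFun := fun ψ => ⟨coextMk (ψ ∘ₗ (Submodule.mkQ n).restrictScalars A), mem_torsionBy_iff.2 fun b hb => coext_ext fun x => by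
        show ψ (Submodule.mkQ n (x * b)) = 0
        rw [show Submodule.mkQ n (x * b) = 0 from
          (Submodule.Quotient.mk_eq_zero _).2 (Ideal.mul_mem_left _ x hb), map_zero]⟩
      left_inv := fun φ => Subtype.ext (coext_ext fun _ => rfl)
      right_inv := fun ψ => LinearMap.ext fun q => by
        obtain ⟨b, rfl⟩ := Submodule.Quotient.mk_surjective _ q
        rfl }

/-- The torsion part of an injective module with small socle is a hull of the residue field. -/
theorem exists_hull_torsionPart_maximal {R S : Type u} [CommRing R] [CommRing S] [IsNoetherianRing S] [Algebra R S]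
    {C : Type u} [AddCommGroup C] [Module S C] [Module R C] [IsScalarTower R S C] (n : Ideal S) [n.IsMaximal] (hC : Module.Injective S C)
    (hfin : Module.length R (S ⧸ n) ≠ ⊤)
    (heq : Module.length R (LocCoh.torsionBy n C) = Module.length R (S ⧸ n)) :
    ∃ g : (S ⧸ n) →ₗ[S] torsionPart n C, IsInjectiveHull g := by
  let e : LocCoh.torsionBy n (torsionPart n C) ≃ₗ[R] LocCoh.torsionBy n C :=
    { toFun := fun x => ⟨((x : torsionPart n C) : C), mem_torsionBy_iff.2 fun a ha =>
        congrArg Subtype.val (mem_torsionBy_iff.1 x.2 a ha)⟩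
      map_add' := fun _ _ => rfl
      map_smul' := fun _ _ => rfl
      invFun := fun x => ⟨⟨x, mem_torsionPart.2 ⟨1, fun a ha =>
          mem_torsionBy_iff.1 x.2 a (by rwa [pow_one] at ha)⟩⟩,
        mem_torsionBy_iff.2 fun a ha => Subtype.ext (mem_torsionBy_iff.1 x.2 a ha)⟩
      left_inv := fun _ => rfl
      right_inv := fun _ => rfl }
  refine exists_hull_of_socle_maximal R n (injective_torsionPart hC _) (fun x => ?_) hfin (e.length_eq.trans heq)
  obtain ⟨n, hn⟩ := mem_torsionPart.1 x.2
  exact ⟨n, fun r hr => Subtype.ext (hn r hr)⟩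

end CoextMaximal

end InjHullLib
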