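import Groth.Agent.InjHullLib.FlatLocal

/-!
# Hulls recognised by their socle; coinduced modules; generators and socles
-/

universe u v w

namespace InjHullLib

open InjHull IsLocalRing CategoryTheory

section Coextend

variable {A B : Type u} [CommRing A] [CommRing B]

/-- Coinduced modules of injective modules are injective. -/
theorem injective_coextend (φ : A →+* B) (E : Type u) [AddCommGroup E] [Module A E] (hE : Module.Injective A E) :
    Module.Injective B ((ModuleCat.coextendScalars φ).obj (ModuleCat.of A E)) := by
  haveI : CategoryTheory.Injective (ModuleCat.of A E) := Module.injective_object_of_injective_module (inj := hE)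
  haveI : CategoryTheory.Injective ((ModuleCat.coextendScalars φ).obj (ModuleCat.of A E)) :=
    CategoryTheory.Injective.injective_of_adjoint (ModuleCat.restrictCoextendScalarsAdj φ) _
  exact Module.injective_module_of_injective_object B ((ModuleCat.coextendScalars φ).obj (ModuleCat.of A E))

end Coextend

section Socle

variable (A : Type u) [CommRing A] {B : Type u} [CommRing B] [IsLocalRing B] [Algebra A B]
variable {H : Type u} [AddCommGroup H] [Module B H] [Module A H] [IsScalarTower A B H]

/-- An injective torsion module whose socle is as long as the residue field is a hull of the residue field. -/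
theorem exists_hull_of_socle (hinj : Module.Injective B H) (htors : LocCoh.IsPowerTorsion (maximalIdeal B) H)
    (hfin : Module.length A (B ⧸ maximalIdeal B) ≠ ⊤)
    (heq : Module.length A (LocCoh.torsionBy (maximalIdeal B) H) = Module.length A (B ⧸ maximalIdeal B)) :
    ∃ g : ResidueField B →ₗ[B] H, IsInjectiveHull g := by
  letI := Ideal.Quotient.field (maximalIdeal B)
  set S := LocCoh.torsionBy (maximalIdeal B) H
  have hne : Nontrivial S := by
    by_contra h
    rw [not_nontrivial_iff_subsingleton] at h
    rw [Module.length_eq_zero, eq_comm, Module.length_eq_zero_iff] at heq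
    exact not_subsingleton (B ⧸ maximalIdeal B) heq
  obtain ⟨y, hy⟩ := exists_ne (0 : S)
  have hkill : (maximalIdeal B : Submodule B B) ≤ LinearMap.ker (LinearMap.toSpanSingleton B H (y : H)) := fun b hb => by
    rw [LinearMap.mem_ker, LinearMap.toSpanSingleton_apply]
    exact mem_torsionBy_iff.1 y.2 b hb
  let g : (B ⧸ maximalIdeal B) →ₗ[B] H := Submodule.liftQ _ (LinearMap.toSpanSingleton B H (y : H)) hkill
  have hrange_le : LinearMap.range g ≤ S := by
    rintro _ ⟨q, rfl⟩
    obtain ⟨b, rfl⟩ := Submodule.Quotient.mk_surjective _ q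
    exact S.smul_mem b y.2
  have hg : Function.Injective g := by
    rw [← LinearMap.ker_eq_bot, Submodule.ker_liftQ, eq_bot_iff, Submodule.map_le_iff_le_comap, Submodule.comap_bot,
      Submodule.ker_mkQ]
    intro b hb
    by_contra h
    obtain ⟨u, rfl⟩ : IsUnit b := by_contra fun hu => h ((mem_maximalIdeal b).2 hu)
    refine hy (Subtype.ext ?_)
    have h2 : (u : B) • (y : H) = 0 := LinearMap.mem_ker.1 hb
    have := congrArg ((↑u⁻¹ : B) • ·) h2
    simpa [smul_smul] using this
  -- the cyclic socle element spans
  let ι : (B ⧸ maximalIdeal B) →ₗ[B] S := g.codRestrict S fun q => hrange_le (LinearMap.mem_range_self g q)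
  have hι : Function.Injective (ι.restrictScalars A) := fun a b h => hg (congrArg Subtype.val h)
  have hadd := Module.length_eq_add_of_exact (R := A) (ι.restrictScalars A) (LinearMap.range (ι.restrictScalars A)).mkQ hι
    (Submodule.mkQ_surjective _) (LinearMap.exact_map_mkQ_range _)
  rw [heq] at hadd
  have hzero : Module.length A (S ⧸ LinearMap.range (ι.restrictScalars A)) = 0 := by
    have h' : Module.length A (B ⧸ maximalIdeal B) + 0 =
        Module.length A (B ⧸ maximalIdeal B) + Module.length A (S ⧸ LinearMap.range (ι.restrictScalars A)) := by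
      rw [add_zero]; exact hadd
    exact ((ENat.addLECancellable_of_ne_top hfin).inj.1 h').symm
  rw [Module.length_eq_zero_iff, Submodule.Quotient.subsingleton_iff] at hzero
  have hrange : LinearMap.range g = S := le_antisymm hrange_le fun x hx => by
    obtain ⟨q, hq⟩ := (hzero.ge trivial : (⟨x, hx⟩ : S) ∈ LinearMap.range (ι.restrictScalars A))
    exact ⟨q, congrArg Subtype.val hq⟩
  refine ⟨g, ⟨isEssentialInj_of_exists_smul hg fun x hx => ?_, hinj⟩⟩
  obtain ⟨r, ⟨s, hs⟩, hr⟩ := exists_smul_mem_of_essential (socle_essential htors) hx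
  obtain ⟨q, hq⟩ : (s : H) ∈ LinearMap.range g := hrange.ge s.2
  exact ⟨r, ⟨q, hq.trans hs⟩, hr⟩

end Socle

section Coextended

variable {A B : Type u} [CommRing A] [CommRing B] [Algebra A B]
  {E : Type u} [AddCommGroup E] [Module A E]

/-- The action on a coinduced module. -/
lemma smul_coextend_apply (b : B) (φ : (ModuleCat.coextendScalars (algebraMap A B)).obj (ModuleCat.of A E)) (x : B) :
    (b • φ) x = φ (x * b) := rfl

end Coextended

section Generators

variable {R : Type u} [CommRing R] [IsLocalRing R] {M : Type u} [AddCommGroup M] [Module R M]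

/-- Nakayama: the minimal number of generators is the length of `M/mM`. -/
theorem spanFinrank_eq_length [Module.Finite R M] :
    ((⊤ : Submodule R M).spanFinrank : ℕ∞) = Module.length R (M ⧸ maximalIdeal R • (⊤ : Submodule R M)) := by
  classical
  letI := Ideal.Quotient.field (maximalIdeal R)
  set N := maximalIdeal R • (⊤ : Submodule R M)
  rw [Module.length_eq_of_surjective (R := R ⧸ maximalIdeal R) (S := R) (M := M ⧸ N) Ideal.Quotient.mk_surjective]
  haveI : Module.Finite (R ⧸ maximalIdeal R) (M ⧸ N) := Module.Finite.of_restrictScalars_finite R _ _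
  rw [Module.length_eq_finrank]
  refine congrArg _ (le_antisymm ?_ ?_)
  · obtain b := Module.finBasis (R ⧸ maximalIdeal R) (M ⧸ N)
    choose m hm using fun i => Submodule.mkQ_surjective N (b i)
    have hspan : Submodule.span R (Set.range m) = ⊤ := by
      refine top_le_iff.1 (Submodule.le_of_le_smul_of_le_jacobson_bot (Module.Finite.fg_top)
        (maximalIdeal_le_jacobson ⊥) fun x _ => ?_)
      have h1 : N.mkQ x ∈ Submodule.map N.mkQ (Submodule.span R (Set.range m)) := by
        rw [Submodule.map_span, ← Set.range_comp, show N.mkQ ∘ m = b from funext hm]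
        have h2 : N.mkQ x ∈ (Submodule.span (R ⧸ maximalIdeal R) (Set.range b)).restrictScalars R := by
          rw [b.span_eq]; trivial
        rwa [Submodule.restrictScalars_span R (R ⧸ maximalIdeal R) Ideal.Quotient.mk_surjective] at h2
      rw [← Submodule.mem_comap, Submodule.comap_map_mkQ] at h1
      exact sup_comm N _ ▸ h1
    rw [← hspan]
    refine (Submodule.spanFinrank_span_le_ncard_of_finite (Set.finite_range m)).trans ?_
    rw [← Nat.card_coe_set_eq]
    exact (Finite.card_range_le m).trans (le_of_eq (Nat.card_fin _))
  · obtain ⟨s, hs, hsM⟩ := Submodule.FG.exists_span_finset_card_eq_spanFinrank (Module.Finite.fg_top (R := R) (M := M))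
    have htop : Submodule.span (R ⧸ maximalIdeal R) ((s.image N.mkQ : Finset (M ⧸ N)) : Set (M ⧸ N)) = ⊤ := by
      rw [← Submodule.restrictScalars_eq_top_iff R, Submodule.restrictScalars_span R (R ⧸ maximalIdeal R) Ideal.Quotient.mk_surjective,
        Finset.coe_image, ← Submodule.map_span, hsM, Submodule.map_top, Submodule.range_mkQ]
    rw [← hs]
    calc Module.finrank (R ⧸ maximalIdeal R) (M ⧸ N) = Module.finrank (R ⧸ maximalIdeal R)
          (Submodule.span (R ⧸ maximalIdeal R) ((s.image N.mkQ : Finset (M ⧸ N)) : Set (M ⧸ N))) := by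
            rw [htop]; exact (finrank_top _ _).symm
      _ ≤ (s.image N.mkQ).card := finrank_span_finset_le_card _
      _ ≤ s.card := Finset.card_image_le

/-- The socle of a dual is the dual of `M/mM`. -/
noncomputable def socleDualEquiv (E : Type u) [AddCommGroup E] [Module R E] :
    ((M ⧸ maximalIdeal R • (⊤ : Submodule R M)) →ₗ[R] E) ≃ₗ[R] LocCoh.torsionBy (maximalIdeal R) (M →ₗ[R] E) where
  toFun φ := ⟨φ ∘ₗ (maximalIdeal R • (⊤ : Submodule R M)).mkQ, mem_torsionBy_iff.2 fun a ha => LinearMap.ext fun x => by
    rw [LinearMap.smul_apply, LinearMap.comp_apply, ← map_smul, ← map_smul,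
      show (maximalIdeal R • (⊤ : Submodule R M)).mkQ (a • x) = 0 from
        (Submodule.Quotient.mk_eq_zero _).2 (Submodule.smul_mem_smul ha trivial), map_zero, LinearMap.zero_apply]⟩
  map_add' _ _ := rfl
  map_smul' _ _ := rfl
  invFun g := Submodule.liftQ _ (g : M →ₗ[R] E) (Submodule.smul_le.2 fun a ha x _ => by
    rw [LinearMap.mem_ker, map_smul, ← LinearMap.smul_apply, mem_torsionBy_iff.1 g.2 a ha, LinearMap.zero_apply])
  left_inv φ := Submodule.linearMap_qext _ rfl
  right_inv g := Subtype.ext (LinearMap.ext fun _ => rfl)

end Generators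

section Completion

open scoped TensorProduct

variable {R : Type u} [CommRing R] {m : Ideal R}

/-- Completion does nothing to power-torsion modules. -/
theorem completion_mk_bijective (hm : m.FG) {I : Type u} [AddCommGroup I] [Module R I] (hI : LocCoh.IsPowerTorsion m I) :
    Function.Bijective (TensorProduct.mk R (AdicCompletion m R) I 1) := by
  let act : AdicCompletion m R ⊗[R] I →ₗ[R] I := TensorProduct.lift (completionHom hI).toLinearMap
  have hact : ∀ x : I, act (TensorProduct.mk R (AdicCompletion m R) I 1 x) = x := fun x => by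
    simp [act]
  refine ⟨fun x y h => by rw [← hact x, h, hact], fun z => ⟨act z, ?_⟩⟩
  induction z using TensorProduct.induction_on with
  | zero => simp
  | add a b ha hb => rw [map_add, map_add, ha, hb]
  | tmul ξ x =>
    obtain ⟨n, hn⟩ := hI x
    have h1 : act (ξ ⊗ₜ[R] x) = actScalar ξ n • x := completionAct_eq' hI ξ x hn
    rw [h1, map_smul, TensorProduct.mk_apply, TensorProduct.smul_tmul', ← sub_eq_zero, ← TensorProduct.sub_tmul]
    have h2 : actScalar ξ n • (1 : AdicCompletion m R) - ξ ∈ m ^ n • (⊤ : Submodule R (AdicCompletion m R)) := by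
      rw [AdicCompletion.pow_smul_top_eq_ker_eval hm, LinearMap.mem_ker, map_sub, sub_eq_zero, map_smul]
      have h3 := mk_actScalar ξ n
      obtain ⟨s, rfl⟩ := AdicCompletion.mk_surjective m R ξ
      rw [AdicCompletion.evalₐ_mk] at h3
      have h4 := Ideal.Quotient.eq.1 h3
      show Submodule.Quotient.mk (actScalar (AdicCompletion.mk m R s) n • (1 : R)) = Submodule.Quotient.mk (s.1 n)
      rw [Submodule.Quotient.eq]
      simpa only [smul_eq_mul, mul_one, Ideal.mul_top] using h4
    generalize actScalar ξ n • (1 : AdicCompletion m R) - ξ = w at h2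
    induction h2 using Submodule.smul_induction_on' with
    | smul a ha w _ => rw [TensorProduct.smul_tmul, hn a ha, TensorProduct.tmul_zero]
    | add a _ b _ ha hb => rw [TensorProduct.add_tmul, ha, hb, add_zero]

end Completion

end InjHullLib
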